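import Cfsg.Prelude.Def_Solvable
import Cfsg.Prelude.Def_CaseTheorems
import Mathlib.GroupTheory.Sylow
import Mathlib.GroupTheory.Index
import Mathlib.GroupTheory.QuotientGroup.Basic
import Mathlib.GroupTheory.Commutator.Basic

/-!
# The cores `O_p(G)` and `O_{p'}(G)`

API for `Cfsg.pCore` and `Cfsg.pPrimeCore` (and so for `Cfsg.oddCore = pPrimeCore 2`).
Finiteness is assumed only where the maximality of a join needs it; `p` need not be prime unless
stated.

Main results, for `C` either core:
* `pCore_normal`, `pCore_characteristic` (instances); `pPrimeCore_normal`, `pPrimeCore_characteristic`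
* `isPGroup_pCore`, `coprime_card_pPrimeCore`, `le_pCore`, `le_pPrimeCore`, `*_eq_top_iff`, `*_eq_bot_iff`
* `map_*_le` (surjective maps), `map_*_mulEquiv`, `map_*_of_ker` (kernel of the same type: equality)
* `comap_*_of_ker`, `*_quotient_self_eq_bot`, `comap_*_quotient`
* `*_subgroupOf_le`, `map_*_subtype_of_normal` (`C(N) = C(G) ∩ N` for normal `N`)
* `pCore_le_sylow`, `pCore_eq_iInf_sylow`, `pCore_disjoint_pPrimeCore`, `commute_of_mem_cores`
-/

set_option autoImplicit false
set_option linter.style.haveILetI false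

namespace Cfsg.Agent.PCore

open Cfsg Subgroup
open scoped commutatorElement

universe u v

variable {G : Type u} [Group G] {H : Type v} [Group H] {p : ℕ}

/-! ### Generalities -/

/-- Induction over the join of a set of normal subgroups of a finite group. -/
theorem sSup_normal_induction [Finite G] {P : Subgroup G → Prop} (h0 : P ⊥)
    (hsup : ∀ A B : Subgroup G, A.Normal → B.Normal → P A → P B → P (A ⊔ B))
    {S : Set (Subgroup G)} (hn : ∀ A ∈ S, A.Normal) (hP : ∀ A ∈ S, P A) : P (sSup S) := by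
  suffices (sSup S).Normal ∧ P (sSup S) from this.2
  induction S, S.toFinite using Set.Finite.induction_on with
  | empty => simp only [sSup_empty]; exact ⟨inferInstance, h0⟩
  | @insert A S _ _ ih =>
    obtain ⟨h1, h2⟩ := ih (fun B hB => hn B (Set.mem_insert_of_mem _ hB))
      (fun B hB => hP B (Set.mem_insert_of_mem _ hB))
    have hA := hn A (Set.mem_insert _ _)
    rw [sSup_insert]
    exact ⟨inferInstance, hsup _ _ hA h1 (hP A (Set.mem_insert _ _)) h2⟩

/-- `|N ⊔ K|` divides `|N| |K|` for normal `N`. -/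
theorem card_sup_dvd (N K : Subgroup G) [N.Normal] :
    Nat.card ↥(N ⊔ K) ∣ Nat.card N * Nat.card K := by
  have h := relIndex_mul_relIndex ⊥ N (N ⊔ K) bot_le le_sup_left
  rw [relIndex_bot_left, relIndex_bot_left, relIndex_sup_left] at h
  rw [← h]
  exact Nat.mul_dvd_mul_left _ (N.relIndex_dvd_card K)

theorem coprime_card_sup (N K : Subgroup G) [N.Normal] {n : ℕ}
    (hN : (Nat.card N).Coprime n) (hK : (Nat.card K).Coprime n) :
    (Nat.card ↥(N ⊔ K)).Coprime n :=
  (Nat.Coprime.mul_left hN hK).coprime_dvd_left (card_sup_dvd N K)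

theorem card_comap_dvd (f : G →* H) (N : Subgroup H) :
    Nat.card (N.comap f) ∣ Nat.card f.ker * Nat.card N := by
  have h := relIndex_mul_relIndex ⊥ f.ker (N.comap f) bot_le (MonoidHom.ker_le_comap f N)
  rw [relIndex_bot_left, relIndex_bot_left] at h
  rw [← h]
  refine Nat.mul_dvd_mul_left _ ?_
  rw [← MonoidHom.comap_bot, relIndex_comap, relIndex_bot_left]
  exact card_dvd_of_le (map_comap_le f N)

theorem isPGroup_equiv_iff (e : G ≃* H) : IsPGroup p G ↔ IsPGroup p H :=
  ⟨fun h => h.of_equiv e, fun h => h.of_equiv e.symm⟩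

theorem isPGroup_top_iff : IsPGroup p (⊤ : Subgroup G) ↔ IsPGroup p G :=
  isPGroup_equiv_iff topEquiv

/-- A `p`-group and a group of order prime to `p` meet trivially. -/
theorem disjoint_of_isPGroup_of_coprime [Finite G] {A B : Subgroup G}
    (hA : IsPGroup p A) (hB : (Nat.card B).Coprime p) : Disjoint A B := by
  rw [disjoint_def]
  intro x hxA hxB
  obtain ⟨k, hk⟩ := hA ⟨x, hxA⟩
  have hxp : x ^ p ^ k = 1 := by simpa using congrArg Subtype.val hk
  rw [← orderOf_eq_one_iff]
  exact Nat.eq_one_of_dvd_coprimes (Nat.Coprime.pow_right k hB)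
    (B.orderOf_dvd_natCard hxB) (orderOf_dvd_of_pow_eq_one hxp)

theorem eq_bot_of_isPGroup_of_coprime [Finite G] {A : Subgroup G}
    (hA : IsPGroup p A) (hB : (Nat.card A).Coprime p) : A = ⊥ :=
  disjoint_self.mp (disjoint_of_isPGroup_of_coprime hA hB)

/-- Elements of two normal subgroups meeting trivially commute. -/
theorem commute_of_normal_of_disjoint {A B : Subgroup G} (hA : A.Normal) (hB : B.Normal)
    (h : Disjoint A B) {a b : G} (ha : a ∈ A) (hb : b ∈ B) : a * b = b * a :=
  Subgroup.commute_of_normal_of_disjoint A B hA hB h a b ha hb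

/-! ### `O_p` -/

instance pCore_normal : (pCore p G).Normal :=
  Subgroup.sSup_normal _ fun _ h => h.1

/-- The maximality of `O_p(G)`. -/
theorem le_pCore {N : Subgroup G} [hN : N.Normal] (h : IsPGroup p N) : N ≤ pCore p G :=
  le_sSup ⟨hN, h⟩

theorem isPGroup_pCore [Finite G] : IsPGroup p (pCore p G) :=
  sSup_normal_induction (P := fun A : Subgroup G => IsPGroup p A)
    IsPGroup.of_bot (fun _ _ hA _ h1 h2 => by haveI := hA; exact h1.to_sup_of_normal_left h2)
    (fun _ h => h.1) (fun _ h => h.2)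

theorem exists_card_pCore [Finite G] [Fact p.Prime] : ∃ k : ℕ, Nat.card (pCore p G) = p ^ k :=
  IsPGroup.iff_card.mp isPGroup_pCore

theorem le_pCore_iff [Finite G] {N : Subgroup G} [N.Normal] :
    N ≤ pCore p G ↔ IsPGroup p N :=
  ⟨isPGroup_pCore.to_le, le_pCore⟩

theorem pCore_le_iff {K : Subgroup G} :
    pCore p G ≤ K ↔ ∀ N : Subgroup G, N.Normal → IsPGroup p N → N ≤ K :=
  sSup_le_iff.trans ⟨fun h N h1 h2 => h N ⟨h1, h2⟩, fun h N hN => h N hN.1 hN.2⟩

theorem pCore_eq_bot_iff :
    pCore p G = ⊥ ↔ ∀ N : Subgroup G, N.Normal → IsPGroup p N → N = ⊥ := by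
  simp [← le_bot_iff, pCore_le_iff]

theorem pCore_eq_top_iff [Finite G] : pCore p G = ⊤ ↔ IsPGroup p G :=
  ⟨fun h => isPGroup_top_iff.mp (h ▸ isPGroup_pCore),
    fun h => top_le_iff.mp (le_pCore (isPGroup_top_iff.mpr h))⟩

theorem pCore_eq_top_of_isPGroup (h : IsPGroup p G) : pCore p G = ⊤ :=
  top_le_iff.mp (le_pCore (isPGroup_top_iff.mpr h))

theorem map_pCore_le (f : G →* H) (hf : Function.Surjective f) :
    (pCore p G).map f ≤ pCore p H := by
  rw [map_le_iff_le_comap, pCore_le_iff]
  intro N hN hP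
  haveI := hN.map f hf
  exact map_le_iff_le_comap.mp (le_pCore (hP.map f))

theorem map_pCore_mulEquiv (e : G ≃* H) : (pCore p G).map e.toMonoidHom = pCore p H := by
  refine le_antisymm (map_pCore_le _ e.surjective) fun x hx => ?_
  exact ⟨e.symm x, map_pCore_le e.symm.toMonoidHom e.symm.surjective ⟨x, hx, rfl⟩,
    e.apply_symm_apply x⟩

instance pCore_characteristic : (pCore p G).Characteristic :=
  characteristic_iff_map_le.mpr fun φ => map_pCore_le φ.toMonoidHom φ.surjective

theorem card_pCore_congr (e : G ≃* H) : Nat.card (pCore p G) = Nat.card (pCore p H) := by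
  rw [← map_pCore_mulEquiv e, card_map_of_injective e.injective]

theorem pCore_eq_bot_congr (e : G ≃* H) : pCore p G = ⊥ ↔ pCore p H = ⊥ := by
  rw [← map_pCore_mulEquiv e, Subgroup.map_eq_bot_iff_of_injective _ e.injective]

theorem mem_pCore_congr (e : G ≃* H) {x : G} : e x ∈ pCore p H ↔ x ∈ pCore p G := by
  rw [← map_pCore_mulEquiv e]
  exact ⟨fun ⟨y, hy, he⟩ => e.injective he ▸ hy, fun h => ⟨x, h, rfl⟩⟩

/-- If the kernel of a surjection is a `p`-group, `O_p` is the preimage of `O_p` of the image. -/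
theorem comap_pCore_of_ker [Finite H] (f : G →* H) (hf : Function.Surjective f)
    (hker : IsPGroup p f.ker) : (pCore p H).comap f = pCore p G :=
  le_antisymm (le_pCore (isPGroup_pCore.comap_of_ker_isPGroup f hker))
    (map_le_iff_le_comap.mp (map_pCore_le f hf))

theorem map_pCore_of_ker [Finite H] (f : G →* H) (hf : Function.Surjective f)
    (hker : IsPGroup p f.ker) : (pCore p G).map f = pCore p H := by
  rw [← comap_pCore_of_ker f hf hker, map_comap_eq_self_of_surjective hf]

theorem comap_pCore_quotient [Finite G] (N : Subgroup G) [N.Normal] (hN : IsPGroup p N) :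
    (pCore p (G ⧸ N)).comap (QuotientGroup.mk' N) = pCore p G :=
  comap_pCore_of_ker _ (QuotientGroup.mk'_surjective N) (by rwa [QuotientGroup.ker_mk'])

theorem map_pCore_quotient [Finite G] (N : Subgroup G) [N.Normal] (hN : IsPGroup p N) :
    (pCore p G).map (QuotientGroup.mk' N) = pCore p (G ⧸ N) :=
  map_pCore_of_ker _ (QuotientGroup.mk'_surjective N) (by rwa [QuotientGroup.ker_mk'])

/-- `O_p(G / O_p(G)) = 1`. -/
theorem pCore_quotient_self_eq_bot [Finite G] : pCore p (G ⧸ pCore p G) = ⊥ := by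
  rw [← map_pCore_quotient (pCore p G) isPGroup_pCore, Subgroup.map_eq_bot_iff, QuotientGroup.ker_mk']

/-- `O_p(G) ∩ K ≤ O_p(K)`. -/
theorem pCore_subgroupOf_le [Finite G] (K : Subgroup G) :
    (pCore p G).subgroupOf K ≤ pCore p K :=
  le_pCore (isPGroup_pCore.comap_subtype (K := K))

theorem pCore_inf_le [Finite G] (K : Subgroup G) :
    pCore p G ⊓ K ≤ (pCore p K).map K.subtype :=
  fun x hx => ⟨⟨x, hx.2⟩, pCore_subgroupOf_le K hx.1, rfl⟩

theorem map_pCore_subtype_normal (N : Subgroup G) [N.Normal] :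
    ((pCore p N).map N.subtype).Normal :=
  inferInstance

/-- For normal `N`, `O_p(N) = O_p(G) ∩ N`. -/
theorem map_pCore_subtype_of_normal [Finite G] (N : Subgroup G) [N.Normal] :
    (pCore p N).map N.subtype = pCore p G ⊓ N :=
  le_antisymm (le_inf (le_pCore (isPGroup_pCore.map _)) (map_subtype_le _)) (pCore_inf_le N)

theorem pCore_normal_subgroup_eq [Finite G] (N : Subgroup G) [N.Normal] :
    pCore p N = (pCore p G).subgroupOf N := by
  apply map_injective N.subtype_injective
  rw [map_pCore_subtype_of_normal, subgroupOf_map_subtype]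

theorem pCore_eq_bot_of_normal [Finite G] (N : Subgroup G) [N.Normal] (h : pCore p G = ⊥) :
    pCore p N = ⊥ := by
  rw [pCore_normal_subgroup_eq, h, bot_subgroupOf]

/-- `O_p(G)` lies in every Sylow `p`-subgroup. -/
theorem pCore_le_sylow [Finite G] (P : Sylow p G) : pCore p G ≤ P := by
  have h := P.3 (P.2.to_sup_of_normal_right (isPGroup_pCore (p := p))) le_sup_left
  exact h ▸ le_sup_right

/-- `O_p(G)` is the intersection of the Sylow `p`-subgroups. -/
theorem pCore_eq_iInf_sylow [Finite G] :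
    pCore p G = ⨅ P : Sylow p G, (P : Subgroup G) := by
  refine le_antisymm (le_iInf pCore_le_sylow) ?_
  haveI : (⨅ P : Sylow p G, (P : Subgroup G)).Normal := by
    refine ⟨fun x hx g => ?_⟩
    rw [mem_iInf] at hx ⊢
    intro P
    obtain ⟨z, hz, hzx⟩ : x ∈ ((g⁻¹ • P : Sylow p G) : Subgroup G) := hx (g⁻¹ • P)
    have hzx' : g⁻¹ * z * g⁻¹⁻¹ = x := hzx
    rw [← hzx']
    have e : g * (g⁻¹ * z * g⁻¹⁻¹) * g⁻¹ = z := by group
    exact e.symm ▸ hz
  exact le_pCore ((default : Sylow p G).2.to_le (iInf_le _ _))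

theorem le_normalizer_pCore {K : Subgroup G} :
    K ≤ Subgroup.normalizer (pCore p G : Set G) := by
  rw [normalizer_eq_top]
  exact le_top

/-! ### `O_{p'}` -/

instance pPrimeCore_normal : (pPrimeCore p G).Normal :=
  Subgroup.sSup_normal _ fun _ h => h.1

instance oddCore_normal : (oddCore G).Normal := pPrimeCore_normal

/-- The maximality of `O_{p'}(G)`. -/
theorem le_pPrimeCore {N : Subgroup G} [hN : N.Normal] (h : (Nat.card N).Coprime p) :
    N ≤ pPrimeCore p G :=
  le_sSup ⟨hN, h⟩

theorem coprime_card_pPrimeCore [Finite G] : (Nat.card (pPrimeCore p G)).Coprime p :=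
  sSup_normal_induction (P := fun A : Subgroup G => (Nat.card A).Coprime p)
    (by rw [card_bot]; exact Nat.coprime_one_left p)
    (fun _ _ hA _ h1 h2 => by haveI := hA; exact coprime_card_sup _ _ h1 h2)
    (fun _ h => h.1) (fun _ h => h.2)

theorem not_dvd_card_pPrimeCore [Finite G] [hp : Fact p.Prime] :
    ¬ p ∣ Nat.card (pPrimeCore p G) :=
  hp.out.coprime_iff_not_dvd.mp coprime_card_pPrimeCore.symm

theorem odd_card_oddCore [Finite G] : Odd (Nat.card (oddCore G)) :=
  Nat.coprime_two_right.mp coprime_card_pPrimeCore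

theorem le_oddCore {N : Subgroup G} [N.Normal] (h : Odd (Nat.card N)) : N ≤ oddCore G :=
  le_pPrimeCore (Nat.coprime_two_right.mpr h)

theorem le_pPrimeCore_iff [Finite G] {N : Subgroup G} [N.Normal] :
    N ≤ pPrimeCore p G ↔ (Nat.card N).Coprime p :=
  ⟨fun h => coprime_card_pPrimeCore.coprime_dvd_left (card_dvd_of_le h), le_pPrimeCore⟩

theorem pPrimeCore_le_iff {K : Subgroup G} :
    pPrimeCore p G ≤ K ↔ ∀ N : Subgroup G, N.Normal → (Nat.card N).Coprime p → N ≤ K :=
  sSup_le_iff.trans ⟨fun h N h1 h2 => h N ⟨h1, h2⟩, fun h N hN => h N hN.1 hN.2⟩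

theorem pPrimeCore_eq_bot_iff :
    pPrimeCore p G = ⊥ ↔ ∀ N : Subgroup G, N.Normal → (Nat.card N).Coprime p → N = ⊥ := by
  simp [← le_bot_iff, pPrimeCore_le_iff]

theorem pPrimeCore_eq_top_iff [Finite G] :
    pPrimeCore p G = ⊤ ↔ (Nat.card G).Coprime p := by
  refine ⟨fun h => ?_, fun h => top_le_iff.mp (le_pPrimeCore (by rwa [card_top]))⟩
  have := coprime_card_pPrimeCore (G := G) (p := p)
  rwa [h, card_top] at this

theorem map_pPrimeCore_le (f : G →* H) (hf : Function.Surjective f) :
    (pPrimeCore p G).map f ≤ pPrimeCore p H := by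
  rw [map_le_iff_le_comap, pPrimeCore_le_iff]
  intro N hN hP
  haveI := hN.map f hf
  exact map_le_iff_le_comap.mp (le_pPrimeCore (hP.coprime_dvd_left (card_map_dvd N f)))

theorem map_pPrimeCore_mulEquiv (e : G ≃* H) :
    (pPrimeCore p G).map e.toMonoidHom = pPrimeCore p H := by
  refine le_antisymm (map_pPrimeCore_le _ e.surjective) fun x hx => ?_
  exact ⟨e.symm x, map_pPrimeCore_le e.symm.toMonoidHom e.symm.surjective ⟨x, hx, rfl⟩,
    e.apply_symm_apply x⟩

instance pPrimeCore_characteristic : (pPrimeCore p G).Characteristic :=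
  characteristic_iff_map_le.mpr fun φ => map_pPrimeCore_le φ.toMonoidHom φ.surjective

instance oddCore_characteristic : (oddCore G).Characteristic := pPrimeCore_characteristic

theorem card_pPrimeCore_congr (e : G ≃* H) :
    Nat.card (pPrimeCore p G) = Nat.card (pPrimeCore p H) := by
  rw [← map_pPrimeCore_mulEquiv e, card_map_of_injective e.injective]

theorem pPrimeCore_eq_bot_congr (e : G ≃* H) :
    pPrimeCore p G = ⊥ ↔ pPrimeCore p H = ⊥ := by
  rw [← map_pPrimeCore_mulEquiv e, Subgroup.map_eq_bot_iff_of_injective _ e.injective]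

theorem mem_pPrimeCore_congr (e : G ≃* H) {x : G} :
    e x ∈ pPrimeCore p H ↔ x ∈ pPrimeCore p G := by
  rw [← map_pPrimeCore_mulEquiv e]
  exact ⟨fun ⟨y, hy, he⟩ => e.injective he ▸ hy, fun h => ⟨x, h, rfl⟩⟩

/-- If the kernel of a surjection has order prime to `p`, `O_{p'}` is the preimage of `O_{p'}` of
the image. -/
theorem comap_pPrimeCore_of_ker [Finite H] (f : G →* H) (hf : Function.Surjective f)
    (hker : (Nat.card f.ker).Coprime p) : (pPrimeCore p H).comap f = pPrimeCore p G :=
  le_antisymm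
    (le_pPrimeCore ((hker.mul_left coprime_card_pPrimeCore).coprime_dvd_left (card_comap_dvd f _)))
    (map_le_iff_le_comap.mp (map_pPrimeCore_le f hf))

theorem map_pPrimeCore_of_ker [Finite H] (f : G →* H) (hf : Function.Surjective f)
    (hker : (Nat.card f.ker).Coprime p) : (pPrimeCore p G).map f = pPrimeCore p H := by
  rw [← comap_pPrimeCore_of_ker f hf hker, map_comap_eq_self_of_surjective hf]

theorem comap_pPrimeCore_quotient [Finite G] (N : Subgroup G) [N.Normal]
    (hN : (Nat.card N).Coprime p) :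
    (pPrimeCore p (G ⧸ N)).comap (QuotientGroup.mk' N) = pPrimeCore p G :=
  comap_pPrimeCore_of_ker _ (QuotientGroup.mk'_surjective N) (by rwa [QuotientGroup.ker_mk'])

theorem map_pPrimeCore_quotient [Finite G] (N : Subgroup G) [N.Normal]
    (hN : (Nat.card N).Coprime p) :
    (pPrimeCore p G).map (QuotientGroup.mk' N) = pPrimeCore p (G ⧸ N) :=
  map_pPrimeCore_of_ker _ (QuotientGroup.mk'_surjective N) (by rwa [QuotientGroup.ker_mk'])

/-- `O_{p'}(G / O_{p'}(G)) = 1`. -/
theorem pPrimeCore_quotient_self_eq_bot [Finite G] :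
    pPrimeCore p (G ⧸ pPrimeCore p G) = ⊥ := by
  rw [← map_pPrimeCore_quotient (pPrimeCore p G) coprime_card_pPrimeCore, Subgroup.map_eq_bot_iff,
    QuotientGroup.ker_mk']

/-- `O_{p'}(G) ∩ K ≤ O_{p'}(K)`. -/
theorem pPrimeCore_subgroupOf_le [Finite G] (K : Subgroup G) :
    (pPrimeCore p G).subgroupOf K ≤ pPrimeCore p K :=
  le_pPrimeCore (coprime_card_pPrimeCore.coprime_dvd_left
    (card_comap_dvd_of_injective _ _ K.subtype_injective))

theorem pPrimeCore_inf_le [Finite G] (K : Subgroup G) :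
    pPrimeCore p G ⊓ K ≤ (pPrimeCore p K).map K.subtype :=
  fun x hx => ⟨⟨x, hx.2⟩, pPrimeCore_subgroupOf_le K hx.1, rfl⟩

/-- For normal `N`, `O_{p'}(N) = O_{p'}(G) ∩ N`. -/
theorem map_pPrimeCore_subtype_of_normal [Finite G] (N : Subgroup G) [N.Normal] :
    (pPrimeCore p N).map N.subtype = pPrimeCore p G ⊓ N :=
  le_antisymm
    (le_inf (le_pPrimeCore (coprime_card_pPrimeCore.coprime_dvd_left (card_map_dvd _ _)))
      (map_subtype_le _))
    (pPrimeCore_inf_le N)

theorem pPrimeCore_normal_subgroup_eq [Finite G] (N : Subgroup G) [N.Normal] :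
    pPrimeCore p N = (pPrimeCore p G).subgroupOf N := by
  apply map_injective N.subtype_injective
  rw [map_pPrimeCore_subtype_of_normal, subgroupOf_map_subtype]

theorem pPrimeCore_eq_bot_of_normal [Finite G] (N : Subgroup G) [N.Normal]
    (h : pPrimeCore p G = ⊥) : pPrimeCore p N = ⊥ := by
  rw [pPrimeCore_normal_subgroup_eq, h, bot_subgroupOf]

/-! ### Both cores -/

theorem pCore_disjoint_pPrimeCore [Finite G] : Disjoint (pCore p G) (pPrimeCore p G) :=
  disjoint_of_isPGroup_of_coprime isPGroup_pCore coprime_card_pPrimeCore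

theorem pCore_inf_pPrimeCore [Finite G] : pCore p G ⊓ pPrimeCore p G = ⊥ :=
  disjoint_iff.mp pCore_disjoint_pPrimeCore

theorem commute_of_mem_cores [Finite G] {a b : G} (ha : a ∈ pCore p G)
    (hb : b ∈ pPrimeCore p G) : a * b = b * a :=
  commute_of_normal_of_disjoint pCore_normal pPrimeCore_normal pCore_disjoint_pPrimeCore ha hb

theorem pPrimeCore_le_centralizer_pCore [Finite G] :
    pPrimeCore p G ≤ centralizer (pCore p G : Set G) :=
  fun _ hb => mem_centralizer_iff.mpr fun _ ha => commute_of_mem_cores ha hb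

theorem pCore_le_centralizer_pPrimeCore [Finite G] :
    pCore p G ≤ centralizer (pPrimeCore p G : Set G) :=
  fun _ ha => mem_centralizer_iff.mpr fun _ hb => (commute_of_mem_cores ha hb).symm

theorem pCore_disjoint_pCore [Finite G] {q : ℕ} [Fact p.Prime] [Fact q.Prime] (h : p ≠ q) :
    Disjoint (pCore p G) (pCore q G) :=
  IsPGroup.disjoint_of_ne p q h _ _ isPGroup_pCore isPGroup_pCore

theorem pCore_le_pPrimeCore [Finite G] {q : ℕ} [hp : Fact p.Prime] [hq : Fact q.Prime] (h : p ≠ q) :
    pCore p G ≤ pPrimeCore q G := by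
  refine le_pPrimeCore ?_
  obtain ⟨k, hk⟩ := exists_card_pCore (G := G) (p := p)
  rw [hk]
  exact Nat.Coprime.pow_left k ((Nat.coprime_primes hp.out hq.out).mpr h)

theorem pCore_eq_bot_of_not_dvd [Finite G] [hp : Fact p.Prime] (h : ¬ p ∣ Nat.card G) :
    pCore p G = ⊥ := by
  refine eq_bot_of_isPGroup_of_coprime (p := p) isPGroup_pCore ?_
  exact ((hp.out.coprime_iff_not_dvd.mpr h).symm).coprime_dvd_left (card_subgroup_dvd_card _)

end Cfsg.Agent.PCore
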