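import Cfsg.Agent.Lib.PCore.PSolvable
import Cfsg.Agent.Lib.Coprime.Basic

/-!
# Hall–Higman 1.2.3 and `p`-constraint

* `centralizer_pCore_le`: `p`-solvable with `O_{p'}(G) = 1` implies `C(O_p(G)) ≤ O_p(G)`
* `map_centralizer_mk'`: `C_{G/N}(P̄) = \overline{C_G(P)}` for a `p`-group `P` and a normal `p'`-group `N`
* `map_sylow_pPrimePCore`: a Sylow subgroup of `O_{p',p}` covers `O_p(G / O_{p'})`
* `isPConstrained_iff`, `isPConstrained_of_pPrimeCore_eq_bot_iff`, `isPConstrained_quotient_iff`,
  `isPConstrained_congr`, `isPConstrained_of_isPSolvable`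
* `pPrimeCore_quotient_upperPSeries`, `pCore_quotient_upperPSeries`
-/

set_option autoImplicit false
set_option linter.style.haveILetI false

namespace Cfsg.Agent.PCore

open Cfsg Subgroup

universe u v

variable {G : Type u} [Group G] {H : Type v} [Group H] {p : ℕ}

/-- A normal subgroup centralising `O_p(G)` with `p'`-image modulo `O_p(G)` lies in `O_p(G)` when
`O_{p'}(G) = 1`. -/
theorem le_pCore_of_le_centralizer [Finite G] [Fact p.Prime] (h : pPrimeCore p G = ⊥)
    (K : Subgroup G) [K.Normal] (hK : K ≤ centralizer (pCore p G : Set G))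
    (hi : ((pCore p G).relIndex K).Coprime p) : K ≤ pCore p G := by
  set Z := (pCore p G).subgroupOf K with hZ
  have hZp : IsPGroup p Z := isPGroup_pCore.comap_subtype (K := K)
  have hco : (Nat.card Z).Coprime Z.index := by
    obtain ⟨k, hk⟩ := hZp.exists_card_eq
    rw [hk]
    exact Nat.Coprime.pow_left k hi.symm
  obtain ⟨L, hL⟩ := exists_right_complement'_of_coprime hco
  have hcen : Z ≤ center K := fun z hz => mem_center_iff.mpr fun g =>
    Subtype.ext ((mem_centralizer_iff.mp (hK g.2)) (z : G) hz).symm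
  have hLn : L.Normal := by
    rw [← normalizer_eq_top_iff, eq_top_iff, ← hL.sup_eq_top]
    refine sup_le (fun z hz => ?_) le_normalizer
    refine mem_normalizer_iff.mpr fun y => ?_
    rw [← mem_center_iff.mp (hcen hz) y, mul_inv_cancel_right]
  have hLc : (Nat.card L).Coprime p := by
    rw [← hL.symm.index_eq_card]; exact hi
  have hL0 : L = ⊥ := by
    have := le_pPrimeCore (hN := hLn) hLc
    rwa [pPrimeCore_eq_bot_of_normal K h, le_bot_iff] at this
  rw [← subgroupOf_eq_top, ← hZ, ← hL.sup_eq_top, hL0, sup_bot_eq]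

/-- Hall–Higman 1.2.3 with only `C(O_p(G))` assumed `p`-solvable. -/
theorem centralizer_pCore_le_of_centralizer [Finite G] [Fact p.Prime] (h : pPrimeCore p G = ⊥)
    (hs : IsPSolvable p ↥(centralizer (pCore p G : Set G))) : centralizer (pCore p G : Set G) ≤ pCore p G := by
  set C := centralizer (pCore p G : Set G) with hC
  set π := QuotientGroup.mk' (pCore p G) with hπ
  haveI hCn : C.Normal := normal_centralizer
  haveI : (C.map π).Normal := hCn.map π (QuotientGroup.mk'_surjective _)
  by_contra hle
  have hne : C.map π ≠ ⊥ := by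
    rw [Ne, Subgroup.map_eq_bot_iff, QuotientGroup.ker_mk']; exact hle
  haveI := (nontrivial_iff_ne_bot _).mpr hne
  have hs' : IsPSolvable p ↥(C.map π) :=
    isPSolvable_of_surjective _ (π.subgroupMap_surjective C) hs
  have h1 : pPrimeCore p ↥(C.map π) ≠ ⊥ :=
    (pCore_ne_bot_or_pPrimeCore_ne_bot hs').resolve_left
      (not_not.mpr (pCore_eq_bot_of_normal _ pCore_quotient_self_eq_bot))
  set K' := (pPrimeCore p ↥(C.map π)).map (C.map π).subtype with hK'
  have hK'n : K'.Normal := by rw [hK']; infer_instance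
  haveI := hK'n.comap π
  set K := K'.comap π ⊓ C with hK
  have hKK' : K.map π = K' := by
    refine le_antisymm ((map_mono inf_le_left).trans (map_comap_le _ _)) fun y hy => ?_
    obtain ⟨c, hc, rfl⟩ := (map_subtype_le _ : K' ≤ C.map π) hy
    exact ⟨c, ⟨hy, hc⟩, rfl⟩
  have hcard : ((pCore p G).relIndex K).Coprime p := by
    rw [relIndex_eq_card_map_mk', ← hπ, hKK', hK']
    exact coprime_card_pPrimeCore.coprime_dvd_left (card_map_dvd _ _)
  have hKle : K ≤ pCore p G := le_pCore_of_le_centralizer h K inf_le_right hcard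
  refine h1 ((map_eq_bot_iff_of_injective _ (C.map π).subtype_injective).mp ?_)
  rw [← hK', ← hKK', Subgroup.map_eq_bot_iff, hπ, QuotientGroup.ker_mk']
  exact hKle

/-- **Hall–Higman 1.2.3**. -/
theorem centralizer_pCore_le [Finite G] [Fact p.Prime] (hs : IsPSolvable p G)
    (h : pPrimeCore p G = ⊥) : centralizer (pCore p G : Set G) ≤ pCore p G :=
  centralizer_pCore_le_of_centralizer h (isPSolvable_subgroup hs _)

theorem centralizer_pCore_le_of_isSolvable [Finite G] [Fact p.Prime] [Group.IsSolvable G]
    (h : pPrimeCore p G = ⊥) : centralizer (pCore p G : Set G) ≤ pCore p G :=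
  centralizer_pCore_le isPSolvable_of_isSolvable h

/-- Centralisers of a `p`-subgroup survive factoring out a normal `p'`-subgroup. -/
theorem map_centralizer_mk' [Finite G] [Fact p.Prime] (N : Subgroup G) [N.Normal]
    (hN : (Nat.card N).Coprime p) {P : Subgroup G} (hP : IsPGroup p P) :
    (centralizer (P : Set G)).map (QuotientGroup.mk' N) =
      centralizer (P.map (QuotientGroup.mk' N) : Set (G ⧸ N)) := by
  refine le_antisymm ?_ fun y hy => ?_
  · rintro _ ⟨x, hx, rfl⟩
    refine mem_centralizer_iff.mpr ?_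
    rintro _ ⟨a, ha, rfl⟩
    rw [← map_mul, ← map_mul, mem_centralizer_iff.mp hx a ha]
  · obtain ⟨x, rfl⟩ := QuotientGroup.mk'_surjective N y
    have hfix : ∀ a ∈ P, x⁻¹ * a * x * a⁻¹ ∈ N := by
      intro a ha
      rw [← QuotientGroup.eq_one_iff]
      have := mem_centralizer_iff.mp hy (QuotientGroup.mk' N a) ⟨a, ha, rfl⟩
      simp only [QuotientGroup.mk'_apply] at this
      simp [mul_assoc]
      rw [← mul_assoc _ (x : G ⧸ N), this]
      simp [mul_assoc]
    obtain ⟨k, hk⟩ := hP.exists_card_eq
    haveI : Group.IsNilpotent P := hP.isNilpotent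
    obtain ⟨n, hn, hxn⟩ := Coprime.exists_mul_mem_centralizer (A := P) (N := N)
      (by rw [normalizer_eq_top]; exact le_top) (by rw [hk]; exact Nat.Coprime.pow_left k hN.symm)
      (Or.inl inferInstance) hfix
    exact ⟨x * n, hxn, by simp [(QuotientGroup.eq_one_iff n).mpr hn]⟩

/-- A Sylow subgroup and a normal subgroup of `p`-power index generate. -/
theorem sylow_sup_eq_top [Finite G] [hp : Fact p.Prime] (P : Sylow p G) (N : Subgroup G) [N.Normal]
    {m : ℕ} (h : N.index = p ^ m) : (P : Subgroup G) ⊔ N = ⊤ := by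
  rw [← index_eq_one]
  refine Nat.eq_one_of_dvd_coprimes ?_ (index_dvd_of_le le_sup_left) (index_dvd_of_le le_sup_right)
  rw [h]
  exact ((hp.out.coprime_iff_not_dvd.mpr P.not_dvd_index).symm).pow_right m

/-- The image of a Sylow subgroup of `O_{p',p}(G)` is `O_p(G / O_{p'}(G))`. -/
theorem map_sylow_pPrimePCore [Finite G] [Fact p.Prime] (P : Sylow p ↥(pPrimePCore p G)) :
    ((P : Subgroup ↥(pPrimePCore p G)).map (pPrimePCore p G).subtype).map
      (QuotientGroup.mk' (pPrimeCore p G)) = pCore p (G ⧸ pPrimeCore p G) := by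
  obtain ⟨m, hm⟩ := relIndex_pPrimePCore (G := G) (p := p)
  have h := congrArg (Subgroup.map (pPrimePCore p G).subtype)
    (sylow_sup_eq_top P ((pPrimeCore p G).subgroupOf (pPrimePCore p G)) hm)
  rw [Subgroup.map_sup, subgroupOf_map_subtype, inf_eq_left.mpr pPrimeCore_le_pPrimePCore,
    ← MonoidHom.range_eq_map, range_subtype] at h
  have h' := congrArg (Subgroup.map (QuotientGroup.mk' (pPrimeCore p G))) h
  rwa [Subgroup.map_sup, map_pPrimePCore,
    show (pPrimeCore p G).map (QuotientGroup.mk' (pPrimeCore p G)) = ⊥ from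
      (Subgroup.map_eq_bot_iff _).mpr (QuotientGroup.ker_mk' _).ge, sup_bot_eq] at h'

/-- `p`-constraint is `C(O_p(Ḡ)) ≤ O_p(Ḡ)` in `Ḡ = G / O_{p'}(G)`. -/
theorem isPConstrained_iff [Finite G] [Fact p.Prime] :
    IsPConstrained p G ↔
      centralizer (pCore p (G ⧸ pPrimeCore p G) : Set (G ⧸ pPrimeCore p G)) ≤
        pCore p (G ⧸ pPrimeCore p G) := by
  have key : ∀ P : Sylow p ↥(pPrimePCore p G),
      (centralizer (((P : Subgroup ↥(pPrimePCore p G)).map (pPrimePCore p G).subtype :
        Subgroup G) : Set G)).map (QuotientGroup.mk' (pPrimeCore p G)) =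
      centralizer (pCore p (G ⧸ pPrimeCore p G) : Set (G ⧸ pPrimeCore p G)) := by
    intro P
    rw [map_centralizer_mk' _ coprime_card_pPrimeCore (P.2.map _), map_sylow_pPrimePCore]
  constructor
  · intro h
    rw [← key default, ← map_pPrimePCore]
    exact map_mono (h default)
  · intro h P
    exact map_le_iff_le_comap.mp ((key P).trans_le h)

theorem isPConstrained_of_pPrimeCore_eq_bot_iff [Finite G] [Fact p.Prime]
    (h : pPrimeCore p G = ⊥) :
    IsPConstrained p G ↔ centralizer (pCore p G : Set G) ≤ pCore p G := by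
  have hp : IsPGroup p (pPrimeCore p G) := by rw [h]; exact IsPGroup.of_bot
  rw [isPConstrained_iff, ← map_pCore_quotient _ hp,
    ← map_centralizer_mk' _ (by rw [h, card_bot]; exact Nat.coprime_one_left p) isPGroup_pCore,
    Subgroup.map_le_map_iff, QuotientGroup.ker_mk', h, sup_bot_eq]

theorem isPConstrained_quotient_iff [Finite G] [Fact p.Prime] :
    IsPConstrained p (G ⧸ pPrimeCore p G) ↔ IsPConstrained p G := by
  rw [isPConstrained_of_pPrimeCore_eq_bot_iff pPrimeCore_quotient_self_eq_bot, isPConstrained_iff]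

theorem centralizer_pCore_le_congr (e : G ≃* H)
    (h : centralizer (pCore p G : Set G) ≤ pCore p G) :
    centralizer (pCore p H : Set H) ≤ pCore p H := by
  intro y hy
  rw [← e.apply_symm_apply y]
  refine (mem_pCore_congr e).mpr (h (mem_centralizer_iff.mpr fun a ha => ?_))
  apply e.injective
  simp only [map_mul, MulEquiv.apply_symm_apply]
  exact mem_centralizer_iff.mp hy _ ((mem_pCore_congr e).mpr ha)

theorem isPConstrained_of_equiv [Finite G] [Fact p.Prime] (e : G ≃* H) (h : IsPConstrained p G) :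
    IsPConstrained p H := by
  haveI := Finite.of_equiv G e.toEquiv
  rw [isPConstrained_iff] at h ⊢
  exact centralizer_pCore_le_congr
    (QuotientGroup.congr (pPrimeCore p G) (pPrimeCore p H) e (map_pPrimeCore_mulEquiv e)) h

theorem isPConstrained_congr [Finite G] [Fact p.Prime] (e : G ≃* H) :
    IsPConstrained p G ↔ IsPConstrained p H := by
  haveI := Finite.of_equiv G e.toEquiv
  exact ⟨isPConstrained_of_equiv e, isPConstrained_of_equiv e.symm⟩

theorem isPConstrained_of_isPSolvable [Finite G] [Fact p.Prime] (hs : IsPSolvable p G) :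
    IsPConstrained p G :=
  isPConstrained_iff.mpr
    (centralizer_pCore_le (isPSolvable_quotient hs _) pPrimeCore_quotient_self_eq_bot)

theorem isPConstrained_of_centralizer_sylow [Finite G] [Fact p.Prime]
    (P : Sylow p ↥(pPrimePCore p G))
    (hs : IsPSolvable p ↥(centralizer (((P : Subgroup ↥(pPrimePCore p G)).map
      (pPrimePCore p G).subtype : Subgroup G) : Set G))) : IsPConstrained p G := by
  refine isPConstrained_iff.mpr (centralizer_pCore_le_of_centralizer
    pPrimeCore_quotient_self_eq_bot ?_)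
  rw [← map_sylow_pPrimePCore P, ← map_centralizer_mk' _ coprime_card_pPrimeCore (P.2.map _)]
  exact isPSolvable_of_surjective _ (MonoidHom.subgroupMap_surjective _ _) hs

/-! ### Quotients by the terms of the series -/

theorem pPrimeCore_quotient_upperPSeries [Finite G] [Fact p.Prime] {n : ℕ} (hn : Even n) :
    pPrimeCore p (G ⧸ (upperPSeries p G (n + 1)).1) = ⊥ := by
  set π := QuotientGroup.mk' (upperPSeries p G (n + 1)).1 with hπ
  have hB : ((pPrimeCore p (G ⧸ (upperPSeries p G (n + 1)).1)).comap π).Normal := inferInstance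
  have hle := le_upperPSeries_succ_of_coprime (hB := hB) hn (le_refl (upperPSeries p G n).1) ?_
  · have := map_mono (f := π) hle
    rwa [map_comap_eq_self_of_surjective (QuotientGroup.mk'_surjective _),
      (Subgroup.map_eq_bot_iff _).mpr (QuotientGroup.ker_mk' _).ge, le_bot_iff] at this
  · rw [← relIndex_mul_relIndex (upperPSeries p G n).1 (upperPSeries p G (n + 1)).1 _
      (upperPSeries_le_succ n) (le_trans (QuotientGroup.ker_mk' _).ge (MonoidHom.ker_le_comap _ _))]
    refine Nat.Coprime.mul_left (relIndex_upperPSeries_of_even hn) ?_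
    rw [relIndex_comap_mk']
    exact coprime_card_pPrimeCore

theorem pCore_quotient_upperPSeries [Finite G] [Fact p.Prime] {n : ℕ} (hn : ¬ Even n) :
    pCore p (G ⧸ (upperPSeries p G (n + 1)).1) = ⊥ := by
  set π := QuotientGroup.mk' (upperPSeries p G (n + 1)).1 with hπ
  have hB : ((pCore p (G ⧸ (upperPSeries p G (n + 1)).1)).comap π).Normal := inferInstance
  obtain ⟨a, ha⟩ := relIndex_upperPSeries_of_odd (G := G) (p := p) hn
  obtain ⟨b, hb⟩ := exists_card_pCore (G := G ⧸ (upperPSeries p G (n + 1)).1) (p := p)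
  have hle := le_upperPSeries_succ_of_pow (hB := hB) hn (le_refl (upperPSeries p G n).1)
    (m := a + b) ?_
  · have := map_mono (f := π) hle
    rwa [map_comap_eq_self_of_surjective (QuotientGroup.mk'_surjective _),
      (Subgroup.map_eq_bot_iff _).mpr (QuotientGroup.ker_mk' _).ge, le_bot_iff] at this
  · rw [← relIndex_mul_relIndex (upperPSeries p G n).1 (upperPSeries p G (n + 1)).1 _
      (upperPSeries_le_succ n) (le_trans (QuotientGroup.ker_mk' _).ge (MonoidHom.ker_le_comap _ _)),
      ha, relIndex_comap_mk', hb, ← pow_add]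

end Cfsg.Agent.PCore
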