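import Cfsg.Prelude.Def_Local
import Cfsg.Agent.Lib.PCore.Basic

/-!
# The upper `p`-series

* `upperPSeries_zero / _one / _two` (`⊥`, `O_{p'}`, `O_{p',p}`), `upperPSeries_succ_of_even/odd`
* `upperPSeries_mono`, `upperPSeries_characteristic`, `map_upperPSeries_le` (surjective maps),
  `comap_upperPSeries_le` (injective maps)
* `le_upperPSeries_succ_of_coprime`, `le_upperPSeries_succ_of_pow` (the absorption step)
* `pPrimePCore_normal`, `pPrimePCore_characteristic`, `map_pPrimePCore`
* `isPSolvable_iff_exists_pLengthLE`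
-/

set_option autoImplicit false
set_option linter.style.haveILetI false

namespace Cfsg.Agent.PCore

open Cfsg Subgroup

universe u v

variable {G : Type u} [Group G] {H : Type v} [Group H] {p : ℕ}

/-! ### Indices and images -/

theorem relIndex_eq_card_map_mk' (N B : Subgroup G) [N.Normal] :
    N.relIndex B = Nat.card (B.map (QuotientGroup.mk' N)) := by
  rw [← relIndex_ker, QuotientGroup.ker_mk']

theorem relIndex_comap_mk' (N : Subgroup G) [N.Normal] (K : Subgroup (G ⧸ N)) :
    N.relIndex (K.comap (QuotientGroup.mk' N)) = Nat.card K := by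
  rw [relIndex_eq_card_map_mk', map_comap_eq_self_of_surjective (QuotientGroup.mk'_surjective N)]

theorem relIndex_dvd_of_le_right_of_normal {A B K : Subgroup G} [A.Normal]
    (hKB : K ≤ B) : A.relIndex K ∣ A.relIndex B := by
  rw [relIndex_eq_card_map_mk', relIndex_eq_card_map_mk']
  exact card_dvd_of_le (map_mono hKB)

theorem card_map_mk'_dvd_relIndex {A B U : Subgroup G} [U.Normal] (hA : A ≤ U) :
    Nat.card (B.map (QuotientGroup.mk' U)) ∣ A.relIndex B := by
  rw [← relIndex_eq_card_map_mk']
  exact relIndex_dvd_of_le_left B hA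

theorem isPGroup_of_card_dvd_pow [Fact p.Prime] {A : Subgroup G} {m : ℕ}
    (h : Nat.card A ∣ p ^ m) : IsPGroup p A := by
  obtain ⟨k, _, hk⟩ := (Nat.dvd_prime_pow Fact.out).mp h
  exact IsPGroup.of_card hk

/-- The preimage of a characteristic subgroup of the quotient by a characteristic subgroup. -/
theorem comap_mk'_characteristic (N : Subgroup G) [N.Normal] [hN : N.Characteristic]
    (K : Subgroup (G ⧸ N)) [hK : K.Characteristic] :
    (K.comap (QuotientGroup.mk' N)).Characteristic :=
  characteristic_iff_le_comap.mpr fun φ x hx => by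
    exact characteristic_iff_le_comap.mp hK
      (QuotientGroup.congr N N φ (characteristic_iff_map_eq.mp hN φ)) hx

/-! ### Terms -/

theorem upperPSeries_zero : (upperPSeries p G 0).1 = ⊥ := by
  rw [upperPSeries]

theorem upperPSeries_succ_of_even {n : ℕ} (hn : Even n) :
    (upperPSeries p G (n + 1)).1 =
      (pPrimeCore p (G ⧸ (upperPSeries p G n).1)).comap (QuotientGroup.mk' _) := by
  conv_lhs => rw [upperPSeries]
  rw [if_pos hn]

theorem upperPSeries_succ_of_odd {n : ℕ} (hn : ¬ Even n) :
    (upperPSeries p G (n + 1)).1 =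
      (pCore p (G ⧸ (upperPSeries p G n).1)).comap (QuotientGroup.mk' _) := by
  conv_lhs => rw [upperPSeries]
  rw [if_neg hn]

theorem upperPSeries_le_succ (n : ℕ) :
    (upperPSeries p G n).1 ≤ (upperPSeries p G (n + 1)).1 := by
  by_cases hn : Even n
  · rw [upperPSeries_succ_of_even hn]
    exact le_trans (QuotientGroup.ker_mk' _).ge (MonoidHom.ker_le_comap _ _)
  · rw [upperPSeries_succ_of_odd hn]
    exact le_trans (QuotientGroup.ker_mk' _).ge (MonoidHom.ker_le_comap _ _)

theorem upperPSeries_mono : Monotone fun n => (upperPSeries p G n).1 :=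
  monotone_nat_of_le_succ upperPSeries_le_succ

theorem upperPSeries_one [Finite G] : (upperPSeries p G 1).1 = pPrimeCore p G := by
  rw [upperPSeries_succ_of_even Even.zero]
  refine comap_pPrimeCore_of_ker _ (QuotientGroup.mk'_surjective _) ?_
  rw [QuotientGroup.ker_mk', upperPSeries_zero, card_bot]
  exact Nat.coprime_one_left p

theorem comap_pCore_congr {A B : Subgroup G} [A.Normal] [B.Normal] (h : A = B) :
    (pCore p (G ⧸ A)).comap (QuotientGroup.mk' A) =
      (pCore p (G ⧸ B)).comap (QuotientGroup.mk' B) := by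
  subst h; rfl

theorem upperPSeries_two [Finite G] : (upperPSeries p G 2).1 = pPrimePCore p G := by
  rw [upperPSeries_succ_of_odd (by decide), comap_pCore_congr upperPSeries_one]
  rfl

theorem map_upperPSeries_le (f : G →* H) (hf : Function.Surjective f) (n : ℕ) :
    (upperPSeries p G n).1.map f ≤ (upperPSeries p H n).1 := by
  induction n with
  | zero => simp [upperPSeries_zero]
  | succ n ih =>
    rw [map_le_iff_le_comap] at ih ⊢
    set fq := QuotientGroup.map _ _ f ih with hfq
    have hs : Function.Surjective fq := by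
      intro y
      obtain ⟨y, rfl⟩ := QuotientGroup.mk_surjective y
      obtain ⟨x, rfl⟩ := hf y
      exact ⟨QuotientGroup.mk x, rfl⟩
    intro x hx
    rw [mem_comap]
    by_cases hn : Even n
    · rw [upperPSeries_succ_of_even hn, mem_comap] at hx ⊢
      exact map_pPrimeCore_le fq hs ⟨_, hx, rfl⟩
    · rw [upperPSeries_succ_of_odd hn, mem_comap] at hx ⊢
      exact map_pCore_le fq hs ⟨_, hx, rfl⟩

theorem map_upperPSeries_mulEquiv (e : G ≃* H) (n : ℕ) :
    (upperPSeries p G n).1.map e.toMonoidHom = (upperPSeries p H n).1 := by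
  refine le_antisymm (map_upperPSeries_le _ e.surjective n) fun x hx => ?_
  exact ⟨e.symm x, map_upperPSeries_le e.symm.toMonoidHom e.symm.surjective n ⟨x, hx, rfl⟩,
    e.apply_symm_apply x⟩

instance upperPSeries_characteristic (n : ℕ) : (upperPSeries p G n).1.Characteristic :=
  characteristic_iff_map_le.mpr fun φ => map_upperPSeries_le φ.toMonoidHom φ.surjective n

/-- A normal subgroup with `p'`-factor over a part of the `n`th term, `n` even, lies in the next. -/
theorem le_upperPSeries_succ_of_coprime {n : ℕ} (hn : Even n) {A B : Subgroup G} [hB : B.Normal]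
    (hA : A ≤ (upperPSeries p G n).1) (h : (A.relIndex B).Coprime p) :
    B ≤ (upperPSeries p G (n + 1)).1 := by
  rw [upperPSeries_succ_of_even hn, ← map_le_iff_le_comap]
  haveI := hB.map (QuotientGroup.mk' (upperPSeries p G n).1) (QuotientGroup.mk'_surjective _)
  exact le_pPrimeCore (h.coprime_dvd_left (card_map_mk'_dvd_relIndex hA))

/-- A normal subgroup with `p`-factor over a part of the `n`th term, `n` odd, lies in the next. -/
theorem le_upperPSeries_succ_of_pow [Fact p.Prime] {n : ℕ} (hn : ¬ Even n) {A B : Subgroup G}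
    [hB : B.Normal] (hA : A ≤ (upperPSeries p G n).1) {m : ℕ} (h : A.relIndex B ∣ p ^ m) :
    B ≤ (upperPSeries p G (n + 1)).1 := by
  rw [upperPSeries_succ_of_odd hn, ← map_le_iff_le_comap]
  haveI := hB.map (QuotientGroup.mk' (upperPSeries p G n).1) (QuotientGroup.mk'_surjective _)
  exact le_pCore (isPGroup_of_card_dvd_pow ((card_map_mk'_dvd_relIndex hA).trans h))

theorem relIndex_upperPSeries_of_even [Finite G] {n : ℕ} (hn : Even n) :
    ((upperPSeries p G n).1.relIndex (upperPSeries p G (n + 1)).1).Coprime p := by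
  rw [upperPSeries_succ_of_even hn, relIndex_comap_mk']
  exact coprime_card_pPrimeCore

theorem relIndex_upperPSeries_of_odd [Finite G] [Fact p.Prime] {n : ℕ} (hn : ¬ Even n) :
    ∃ m, (upperPSeries p G n).1.relIndex (upperPSeries p G (n + 1)).1 = p ^ m := by
  rw [upperPSeries_succ_of_odd hn, relIndex_comap_mk']
  exact exists_card_pCore

theorem relIndex_upperPSeries [Finite G] [Fact p.Prime] (n : ℕ) :
    (∃ m, (upperPSeries p G n).1.relIndex (upperPSeries p G (n + 1)).1 = p ^ m) ∨
      ((upperPSeries p G n).1.relIndex (upperPSeries p G (n + 1)).1).Coprime p :=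
  (Classical.em (Even n)).elim (fun h => Or.inr (relIndex_upperPSeries_of_even h))
    (fun h => Or.inl (relIndex_upperPSeries_of_odd h))

/-- Two steps of the series absorb any single `p`- or `p'`-factor. -/
theorem le_upperPSeries_add_two [Fact p.Prime] {k : ℕ} {A B : Subgroup G} [B.Normal]
    (hA : A ≤ (upperPSeries p G (2 * k)).1)
    (h : (∃ m, A.relIndex B = p ^ m) ∨ (A.relIndex B).Coprime p) :
    B ≤ (upperPSeries p G (2 * (k + 1))).1 := by
  rcases h with ⟨m, hm⟩ | h
  · exact le_upperPSeries_succ_of_pow (n := 2 * k + 1) (by simp [parity_simps])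
      (hA.trans (upperPSeries_le_succ _)) (dvd_of_eq hm)
  · exact (le_upperPSeries_succ_of_coprime (n := 2 * k) (by simp) hA h).trans
      (upperPSeries_le_succ _)

theorem comap_upperPSeries_le [Finite G] [Fact p.Prime] (f : H →* G) (hf : Function.Injective f)
    (n : ℕ) : (upperPSeries p G n).1.comap f ≤ (upperPSeries p H n).1 := by
  induction n with
  | zero =>
    rw [upperPSeries_zero, upperPSeries_zero, MonoidHom.comap_bot, (f.ker_eq_bot_iff).mpr hf]
  | succ n ih =>
    have hd : ((upperPSeries p G n).1.comap f).relIndex ((upperPSeries p G (n + 1)).1.comap f) ∣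
        (upperPSeries p G n).1.relIndex (upperPSeries p G (n + 1)).1 := by
      rw [relIndex_comap]
      exact relIndex_dvd_of_le_right_of_normal (map_comap_le _ _)
    by_cases hn : Even n
    · exact le_upperPSeries_succ_of_coprime hn ih
        ((relIndex_upperPSeries_of_even hn).coprime_dvd_left hd)
    · obtain ⟨m, hm⟩ := relIndex_upperPSeries_of_odd (G := G) (p := p) hn
      exact le_upperPSeries_succ_of_pow hn ih (hm ▸ hd)

/-! ### `O_{p',p}` -/

instance pPrimePCore_normal : (pPrimePCore p G).Normal :=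
  inferInstanceAs ((pCore p (G ⧸ pPrimeCore p G)).comap (QuotientGroup.mk' _)).Normal

instance pPrimePCore_characteristic : (pPrimePCore p G).Characteristic :=
  comap_mk'_characteristic _ _

theorem pPrimeCore_le_pPrimePCore : pPrimeCore p G ≤ pPrimePCore p G :=
  le_trans (QuotientGroup.ker_mk' _).ge (MonoidHom.ker_le_comap _ _)

theorem pCore_le_pPrimePCore : pCore p G ≤ pPrimePCore p G :=
  map_le_iff_le_comap.mp (map_pCore_le _ (QuotientGroup.mk'_surjective _))

theorem map_pPrimePCore :
    (pPrimePCore p G).map (QuotientGroup.mk' (pPrimeCore p G)) = pCore p (G ⧸ pPrimeCore p G) :=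
  map_comap_eq_self_of_surjective (QuotientGroup.mk'_surjective _) _

/-- `O_{p',p}(G) / O_{p'}(G)` is a `p`-group. -/
theorem relIndex_pPrimePCore [Finite G] [Fact p.Prime] :
    ∃ m, (pPrimeCore p G).relIndex (pPrimePCore p G) = p ^ m := by
  rw [pPrimePCore, relIndex_comap_mk']
  exact exists_card_pCore

theorem pPrimePCore_eq_pCore [Finite G] (h : pPrimeCore p G = ⊥) :
    pPrimePCore p G = pCore p G :=
  comap_pCore_quotient (pPrimeCore p G) (by rw [h]; exact IsPGroup.of_bot)

/-! ### `p`-solvability and the series -/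

theorem isPSolvable_iff_exists_eq_top [Finite G] [Fact p.Prime] :
    IsPSolvable p G ↔ ∃ n, (upperPSeries p G n).1 = ⊤ := by
  constructor
  · rintro ⟨n, H, h0, h1, _, hn, hf⟩
    refine ⟨2 * n, top_le_iff.mp (h1 ▸ ?_)⟩
    suffices ∀ i : Fin (n + 1), H i ≤ (upperPSeries p G (2 * (i : ℕ))).1 from this (Fin.last n)
    intro i
    induction i using Fin.induction with
    | zero => simp [h0]
    | succ i ih =>
      haveI := hn i.succ
      rw [Fin.val_succ]
      exact le_upperPSeries_add_two ih (hf i)
  · rintro ⟨n, hn⟩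
    refine ⟨n, fun i => (upperPSeries p G i).1, upperPSeries_zero, hn, ?_,
      fun i => upperPSeries_normal p G i, fun i => relIndex_upperPSeries (i : ℕ)⟩
    exact fun i j hij => upperPSeries_mono hij

theorem pLengthLE_mono {j k : ℕ} (h : j ≤ k) (hj : PLengthLE p j G) : PLengthLE p k G :=
  top_le_iff.mp (hj.ge.trans (upperPSeries_mono (by omega)))

theorem isPSolvable_iff_exists_pLengthLE [Finite G] [Fact p.Prime] :
    IsPSolvable p G ↔ ∃ k, PLengthLE p k G := by
  rw [isPSolvable_iff_exists_eq_top]
  refine ⟨fun ⟨n, hn⟩ => ⟨n, ?_⟩, fun ⟨k, hk⟩ => ⟨_, hk⟩⟩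
  exact top_le_iff.mp (hn.ge.trans (upperPSeries_mono (by omega)))

theorem pLengthLE_of_surjective {k : ℕ} (f : G →* H) (hf : Function.Surjective f)
    (h : PLengthLE p k G) : PLengthLE p k H := by
  refine top_le_iff.mp (le_trans ?_ (map_upperPSeries_le f hf (2 * k + 1)))
  rw [h, map_top_of_surjective f hf]

theorem pLengthLE_of_injective [Finite G] [Fact p.Prime] {k : ℕ} (f : H →* G)
    (hf : Function.Injective f) (h : PLengthLE p k G) : PLengthLE p k H := by
  refine top_le_iff.mp (le_trans ?_ (comap_upperPSeries_le f hf (2 * k + 1)))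
  rw [h, comap_top]

end Cfsg.Agent.PCore
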