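import Cfsg.Agent.Lib.PCore.UpperSeries
import Cfsg.Agent.Lib.Components.Fitting

/-!
# `p`-solvable groups

* closure: `isPSolvable_of_injective`, `isPSolvable_subgroup`, `isPSolvable_of_surjective`,
  `isPSolvable_quotient`, `isPSolvable_of_normal` (extension), `isPSolvable_congr`
* `isPSolvable_of_isPGroup`, `isPSolvable_of_coprime`, `isPSolvable_of_isSolvable`
* `pCore_ne_bot_or_pPrimeCore_ne_bot`, `isPGroup_or_coprime_of_minimal_normal`
-/

set_option autoImplicit false
set_option linter.style.haveILetI false

namespace Cfsg.Agent.PCore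

open Cfsg Subgroup

universe u v

variable {G : Type u} [Group G] {H : Type v} [Group H] {p : ℕ}

theorem isPSolvable_of_injective [Finite G] [Fact p.Prime] (f : H →* G) (hf : Function.Injective f)
    (h : IsPSolvable p G) : IsPSolvable p H := by
  haveI := Finite.of_injective f hf
  rw [isPSolvable_iff_exists_pLengthLE] at h ⊢
  exact h.imp fun k => pLengthLE_of_injective f hf

theorem isPSolvable_subgroup [Finite G] [Fact p.Prime] (h : IsPSolvable p G) (K : Subgroup G) :
    IsPSolvable p K :=
  isPSolvable_of_injective K.subtype K.subtype_injective h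

theorem isPSolvable_of_le [Finite G] [Fact p.Prime] {K L : Subgroup G} (hKL : K ≤ L)
    (h : IsPSolvable p L) : IsPSolvable p K :=
  isPSolvable_of_injective (Subgroup.inclusion hKL) (Subgroup.inclusion_injective hKL) h

theorem isPSolvable_of_surjective [Finite G] [Fact p.Prime] (f : G →* H)
    (hf : Function.Surjective f) (h : IsPSolvable p G) : IsPSolvable p H := by
  haveI := Finite.of_surjective f hf
  rw [isPSolvable_iff_exists_pLengthLE] at h ⊢
  exact h.imp fun k => pLengthLE_of_surjective f hf

theorem isPSolvable_quotient [Finite G] [Fact p.Prime] (h : IsPSolvable p G) (N : Subgroup G)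
    [N.Normal] : IsPSolvable p (G ⧸ N) :=
  isPSolvable_of_surjective _ (QuotientGroup.mk'_surjective N) h

theorem isPSolvable_congr [Finite G] [Fact p.Prime] (e : G ≃* H) :
    IsPSolvable p G ↔ IsPSolvable p H := by
  haveI := Finite.of_equiv G e.toEquiv
  exact ⟨isPSolvable_of_surjective e.toMonoidHom e.surjective,
    isPSolvable_of_surjective e.symm.toMonoidHom e.symm.surjective⟩

/-- A two-term chain. -/
theorem isPSolvable_of_card (h : (∃ m, Nat.card G = p ^ m) ∨ (Nat.card G).Coprime p) :
    IsPSolvable p G := by
  refine ⟨1, ![⊥, ⊤], rfl, rfl, ?_, ?_, ?_⟩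
  · rw [Fin.monotone_iff_le_succ]
    intro i
    fin_cases i
    exact bot_le
  · intro i
    fin_cases i
    · exact (inferInstance : (⊥ : Subgroup G).Normal)
    · exact (inferInstance : (⊤ : Subgroup G).Normal)
  · intro i
    fin_cases i
    simpa using h

theorem isPSolvable_of_isPGroup [Finite G] [Fact p.Prime] (h : IsPGroup p G) : IsPSolvable p G :=
  isPSolvable_of_card (Or.inl h.exists_card_eq)

theorem isPSolvable_of_coprime (h : (Nat.card G).Coprime p) : IsPSolvable p G :=
  isPSolvable_of_card (Or.inr h)

theorem isPSolvable_of_subsingleton [Subsingleton G] : IsPSolvable p G :=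
  isPSolvable_of_coprime (by rw [Nat.card_of_subsingleton (1 : G)]; exact Nat.coprime_one_left p)

/-- A normal `p`-solvable subgroup lies in some term of the upper `p`-series. -/
theorem exists_le_upperPSeries [Finite G] [Fact p.Prime] (N : Subgroup G) [N.Normal]
    (h : IsPSolvable p N) : ∃ k, N ≤ (upperPSeries p G (2 * k)).1 := by
  obtain ⟨n, hn⟩ := isPSolvable_iff_exists_eq_top.mp h
  refine ⟨n, ?_⟩
  have key : ∀ i, (upperPSeries p N i).1.map N.subtype ≤ (upperPSeries p G (2 * i)).1 := by
    intro i
    induction i with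
    | zero => simp [upperPSeries_zero]
    | succ i ih =>
      refine le_upperPSeries_add_two ih ?_
      rw [relIndex_map_map_of_injective _ _ N.subtype_injective]
      exact relIndex_upperPSeries i
  have := key n
  rwa [hn, ← MonoidHom.range_eq_map, range_subtype] at this

/-- Extensions of `p`-solvable groups are `p`-solvable. -/
theorem isPSolvable_of_normal [Finite G] [Fact p.Prime] (N : Subgroup G) [N.Normal]
    (hN : IsPSolvable p N) (hQ : IsPSolvable p (G ⧸ N)) : IsPSolvable p G := by
  obtain ⟨k, hk⟩ := exists_le_upperPSeries N hN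
  obtain ⟨n, hn⟩ := isPSolvable_iff_exists_eq_top.mp hQ
  have key : ∀ i, (upperPSeries p (G ⧸ N) i).1.comap (QuotientGroup.mk' N) ≤
      (upperPSeries p G (2 * (k + i))).1 := by
    intro i
    induction i with
    | zero => rwa [upperPSeries_zero, MonoidHom.comap_bot, QuotientGroup.ker_mk']
    | succ i ih =>
      refine le_upperPSeries_add_two ih ?_
      rw [relIndex_comap,
        map_comap_eq_self_of_surjective (QuotientGroup.mk'_surjective N)]
      exact relIndex_upperPSeries i
  refine isPSolvable_iff_exists_eq_top.mpr ⟨2 * (k + n), top_le_iff.mp ?_⟩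
  have := key n
  rwa [hn, comap_top] at this

theorem isPSolvable_iff_of_normal [Finite G] [Fact p.Prime] (N : Subgroup G) [N.Normal] :
    IsPSolvable p G ↔ IsPSolvable p N ∧ IsPSolvable p (G ⧸ N) :=
  ⟨fun h => ⟨isPSolvable_subgroup h N, isPSolvable_quotient h N⟩,
    fun h => isPSolvable_of_normal N h.1 h.2⟩

theorem pCore_ne_bot_or_pPrimeCore_ne_bot [Finite G] [Fact p.Prime] [Nontrivial G]
    (h : IsPSolvable p G) : pCore p G ≠ ⊥ ∨ pPrimeCore p G ≠ ⊥ := by
  by_contra hc
  simp only [not_or, not_not] at hc
  obtain ⟨n, hn⟩ := isPSolvable_iff_exists_eq_top.mp h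
  have hall : ∀ i, (upperPSeries p G i).1 = ⊥ := by
    intro i
    induction i with
    | zero => exact upperPSeries_zero
    | succ i ih =>
      by_cases hi : Even i
      · rw [upperPSeries_succ_of_even hi, comap_pPrimeCore_of_ker _ (QuotientGroup.mk'_surjective _)
          (by rw [QuotientGroup.ker_mk', ih, card_bot]; exact Nat.coprime_one_left p)]
        exact hc.2
      · rw [upperPSeries_succ_of_odd hi, comap_pCore_quotient _ (by rw [ih]; exact IsPGroup.of_bot)]
        exact hc.1
  exact bot_ne_top ((hall n).symm.trans hn)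

/-- A minimal normal subgroup of a `p`-solvable group is a `p`-group or a `p'`-group. -/
theorem isPGroup_or_coprime_of_minimal_normal [Finite G] [Fact p.Prime] (h : IsPSolvable p G)
    (N : Subgroup G) [N.Normal] (hmin : ∀ K : Subgroup G, K.Normal → K ≤ N → K = ⊥ ∨ K = N) :
    IsPGroup p N ∨ (Nat.card N).Coprime p := by
  rcases eq_or_ne N ⊥ with rfl | hne
  · exact Or.inl IsPGroup.of_bot
  haveI := (nontrivial_iff_ne_bot N).mpr hne
  rcases pCore_ne_bot_or_pPrimeCore_ne_bot (isPSolvable_subgroup h N) with h1 | h1
  · left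
    rcases hmin _ inferInstance (map_subtype_le (pCore p N)) with h2 | h2
    · exact absurd ((map_eq_bot_iff_of_injective _ N.subtype_injective).mp h2) h1
    · exact h2 ▸ isPGroup_pCore.map N.subtype
  · right
    rcases hmin _ inferInstance (map_subtype_le (pPrimeCore p N)) with h2 | h2
    · exact absurd ((map_eq_bot_iff_of_injective _ N.subtype_injective).mp h2) h1
    · exact h2 ▸ coprime_card_pPrimeCore.coprime_dvd_left (card_map_dvd _ _)

/-- Solvable groups are `p`-solvable. -/
theorem isPSolvable_of_isSolvable [Finite G] [Fact p.Prime] [Group.IsSolvable G] :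
    IsPSolvable p G := by
  induction hn : Nat.card G using Nat.strong_induction_on generalizing G with
  | _ n ih =>
    subst hn
    rcases subsingleton_or_nontrivial G with hs | hnt
    · exact isPSolvable_of_subsingleton
    obtain ⟨q, hq, hne⟩ : ∃ q : ℕ, q.Prime ∧ pCore q G ≠ ⊥ := by
      have hF := Components.fittingSubgroup_ne_bot (G := G)
      rw [Components.fittingSubgroup_eq_iSup_pCore, ne_eq, iSup_eq_bot, not_forall] at hF
      obtain ⟨q, hq⟩ := hF
      exact ⟨q, Nat.prime_of_mem_primeFactors q.2, hq⟩
    haveI := Fact.mk hq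
    have hN : IsPSolvable p (pCore q G) := by
      rcases eq_or_ne q p with rfl | hqp
      · exact isPSolvable_of_isPGroup isPGroup_pCore
      · obtain ⟨k, hk⟩ := exists_card_pCore (G := G) (p := q)
        refine isPSolvable_of_coprime ?_
        rw [hk]
        exact Nat.Coprime.pow_left k ((Nat.coprime_primes hq Fact.out).mpr hqp)
    refine isPSolvable_of_normal (pCore q G) hN (ih _ ?_ rfl)
    rw [← index_eq_card]
    have h1 := card_mul_index (pCore q G)
    have h2 : 1 < Nat.card (pCore q G) := one_lt_card_iff_ne_bot _ |>.mpr hne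
    have h3 : 0 < (pCore q G).index := Nat.pos_of_ne_zero index_ne_zero_of_finite
    nlinarith

theorem isPSolvable_of_isPGroup_quotient [Finite G] [Fact p.Prime] (N : Subgroup G) [N.Normal]
    (hN : IsPSolvable p N) (hQ : IsPGroup p (G ⧸ N)) : IsPSolvable p G :=
  isPSolvable_of_normal N hN (isPSolvable_of_isPGroup hQ)

end Cfsg.Agent.PCore
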