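import Cfsg.Agent.Lib.PCore.PSolvable
import Cfsg.Agent.Lib.Coprime.Basic
import Cfsg.Prelude.Def_Amalgam
import Mathlib.GroupTheory.SchurZassenhaus

/-!
# Further facts on cores and `p`-solvable groups

* `pCoreOf_le`, `isPGroup_pCoreOf`, `le_normalizer_pCoreOf`, `le_pCoreOf`, `pCoreOf_eq_bot_iff`
* `exists_pPrimeHall`: a `p`-solvable group has a Hall `p'`-subgroup
* `isSolvable_of_forall_isPSolvable`: `p`-solvable for every prime `p` implies solvable
-/

set_option autoImplicit false
set_option linter.style.haveILetI false

namespace Cfsg.Agent.PCore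

open Cfsg Subgroup

universe u

variable {G : Type u} [Group G] {p : ℕ}

/-! ### `O_p` of a subgroup, in the ambient group -/

theorem pCoreOf_le (K : Subgroup G) : pCoreOf p K ≤ K :=
  map_subtype_le _

theorem isPGroup_pCoreOf [Finite G] (K : Subgroup G) : IsPGroup p (pCoreOf p K) :=
  isPGroup_pCore.map _

theorem le_normalizer_pCoreOf (K : Subgroup G) :
    K ≤ normalizer (pCoreOf p K : Set G) := by
  refine le_trans ?_ (le_normalizer_map K.subtype)
  rw [normalizer_eq_top_iff.mpr pCore_normal, ← MonoidHom.range_eq_map, range_subtype]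

/-- A `p`-subgroup of `K` normalised by `K` lies in `O_p(K)`. -/
theorem le_pCoreOf {K R : Subgroup G} (hRK : R ≤ K) (hR : IsPGroup p R)
    (hn : K ≤ normalizer (R : Set G)) : R ≤ pCoreOf p K := by
  haveI := Coprime.normal_subgroupOf_of_le_normalizer hn
  intro x hx
  exact ⟨⟨x, hRK hx⟩, le_pCore (N := R.subgroupOf K) (hR.of_equiv (subgroupOfEquivOfLe hRK).symm) hx,
    rfl⟩

theorem pCoreOf_eq_bot_iff (K : Subgroup G) : pCoreOf p K = ⊥ ↔ pCore p ↥K = ⊥ :=
  map_eq_bot_iff_of_injective _ K.subtype_injective

theorem pCoreOf_top : pCoreOf p (⊤ : Subgroup G) = pCore p G :=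
  map_pCore_mulEquiv topEquiv

/-- `O_p(G)` inside an overgroup `K`. -/
theorem pCore_le_pCoreOf [Finite G] {K : Subgroup G} (h : pCore p G ≤ K) :
    pCore p G ≤ pCoreOf p K :=
  fun _ hx => pCore_inf_le K ⟨hx, h hx⟩

/-! ### Hall `p'`-subgroups -/

/-- A `p`-solvable group has a subgroup of order prime to `p` and of `p`-power index. -/
theorem exists_pPrimeHall [Finite G] [Fact p.Prime] (hG : IsPSolvable p G) :
    ∃ H : Subgroup G, (Nat.card H).Coprime p ∧ ∃ m, H.index = p ^ m := by
  induction hn : Nat.card G using Nat.strong_induction_on generalizing G with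
  | _ n ih =>
    subst hn
    rcases subsingleton_or_nontrivial G with hs | hnt
    · exact ⟨⊥, by rw [card_bot]; exact Nat.coprime_one_left p, 0,
        by rw [index_bot, Nat.card_of_subsingleton (1 : G), pow_zero]⟩
    have small : ∀ N : Subgroup G, N.Normal → N ≠ ⊥ → Nat.card (G ⧸ N) < Nat.card G := by
      intro N hN hne
      rw [← index_eq_card]
      have h1 := card_mul_index N
      have h2 : 1 < Nat.card N := (one_lt_card_iff_ne_bot N).mpr hne
      have h3 : 0 < N.index := Nat.pos_of_ne_zero index_ne_zero_of_finite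
      nlinarith
    by_cases hP : pPrimeCore p G = ⊥
    · have hne := (pCore_ne_bot_or_pPrimeCore_ne_bot hG).resolve_right (not_not.mpr hP)
      obtain ⟨L, hL, m, hm⟩ := ih _ (small _ pCore_normal hne)
        (isPSolvable_quotient hG (pCore p G)) rfl
      set W := L.comap (QuotientGroup.mk' (pCore p G)) with hW
      have hQW : pCore p G ≤ W := (QuotientGroup.ker_mk' _).ge.trans (MonoidHom.ker_le_comap _ L)
      have hrel : (pCore p G).relIndex W = Nat.card L := relIndex_comap_mk' _ _
      have hcop : (Nat.card ((pCore p G).subgroupOf W)).Coprime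
          ((pCore p G).subgroupOf W).index := by
        obtain ⟨k, hk⟩ := IsPGroup.iff_card.mp ((isPGroup_pCore (G := G) (p := p)).comap_subtype (K := W))
        rw [show ((pCore p G).subgroupOf W).index = Nat.card L from hrel, show Nat.card ((pCore p G).subgroupOf W) = p ^ k from hk]
        exact Nat.Coprime.pow_left k hL.symm
      obtain ⟨B, hB⟩ := exists_right_complement'_of_coprime hcop
      have hBc : Nat.card (B.map W.subtype) = Nat.card L := by
        rw [card_map_of_injective W.subtype_injective, ← hB.symm.index_eq_card]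
        exact hrel
      obtain ⟨k, hk⟩ := exists_card_pCore (G := G) (p := p)
      refine ⟨B.map W.subtype, hBc ▸ hL, k + m, ?_⟩
      have h1 := card_mul_index (B.map W.subtype)
      have h2 := card_mul_index (pCore p G)
      rw [index_eq_card, ← card_mul_index L, hk, hm] at h2
      rw [hBc, ← h2] at h1
      refine Nat.eq_of_mul_eq_mul_left (Nat.card_pos (α := L)) ?_
      rw [h1, pow_add]
      ring
    · obtain ⟨L, hL, m, hm⟩ := ih _ (small _ pPrimeCore_normal hP)
        (isPSolvable_quotient hG (pPrimeCore p G)) rfl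
      refine ⟨L.comap (QuotientGroup.mk' (pPrimeCore p G)), ?_, m, ?_⟩
      · refine Nat.Coprime.coprime_dvd_left (card_comap_dvd _ L) ?_
        rw [QuotientGroup.ker_mk']
        exact coprime_card_pPrimeCore.mul_left hL
      · rw [index_comap_of_surjective _ (QuotientGroup.mk'_surjective _), hm]

/-- A group which is `p`-solvable for every prime `p` is solvable. -/
theorem isSolvable_of_forall_isPSolvable [Finite G]
    (h : ∀ q : ℕ, q.Prime → IsPSolvable q G) : Group.IsSolvable G := by
  induction hn : Nat.card G using Nat.strong_induction_on generalizing G with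
  | _ n ih =>
    subst hn
    rcases subsingleton_or_nontrivial G with hs | hnt
    · infer_instance
    obtain ⟨q, hq, hqd⟩ := Nat.exists_prime_and_dvd (Finite.one_lt_card (α := G)).ne'
    haveI := Fact.mk hq
    have small : ∀ K : Subgroup G, K ≠ ⊤ → Nat.card K < Nat.card G := fun K hK =>
      lt_of_le_of_ne (Nat.le_of_dvd Nat.card_pos (card_subgroup_dvd_card K))
        fun h => hK (eq_top_of_card_eq K h)
    have split : ∀ N : Subgroup G, N.Normal → N ≠ ⊥ → N ≠ ⊤ → Group.IsSolvable G := by
      intro N hN hb ht
      have h1 : Group.IsSolvable N := ih _ (small N ht)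
        (fun r hr => by haveI := Fact.mk hr; exact isPSolvable_subgroup (h r hr) N) rfl
      have hlt : Nat.card (G ⧸ N) < Nat.card G := by
        rw [← index_eq_card]
        have h1 := card_mul_index N
        have h2 : 1 < Nat.card N := (one_lt_card_iff_ne_bot N).mpr hb
        have h3 : 0 < N.index := Nat.pos_of_ne_zero index_ne_zero_of_finite
        nlinarith
      have h2 : Group.IsSolvable (G ⧸ N) := ih _ hlt
        (fun r hr => by haveI := Fact.mk hr; exact isPSolvable_quotient (h r hr) N) rfl
      exact Group.isSolvable_of_ker_le_range N.subtype (QuotientGroup.mk' N)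
        (by rw [QuotientGroup.ker_mk', range_subtype])
    rcases pCore_ne_bot_or_pPrimeCore_ne_bot (h q hq) with h1 | h1
    · by_cases ht : pCore q G = ⊤
      · haveI := (pCore_eq_top_iff.mp ht).isNilpotent
        infer_instance
      · exact split _ pCore_normal h1 ht
    · refine split _ pPrimeCore_normal h1 fun ht => ?_
      exact hq.coprime_iff_not_dvd.mp (pPrimeCore_eq_top_iff.mp ht).symm hqd

end Cfsg.Agent.PCore
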