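import Cfsg.Agent.Lib.PCore.UpperSeries

/-!
# Moving `p`-length along quotients

* `pLengthLE_zero_iff`: `p`-length 0 means order prime to `p`.
* `comap_upperPSeries_le_add`: a surjection with kernel in term `d` shifts the series by `d`.
* `pLengthLE_of_ker_le_pPrimeCore`, `pLengthLE_succ_of_isPGroup_ker`: consequences.
* `pLengthLE_of_pCore`: with `O_{p'}(G) = 1`, `G / O_p(G)` has smaller `p`-length.
* `pLengthLE_of_subdirect`: subdirect products.
-/

set_option autoImplicit false

namespace Cfsg.Agent.PCore

open Subgroup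

universe u v w

variable {G : Type u} [Group G] {H : Type v} [Group H] {p : ℕ}

theorem pLengthLE_zero_iff [Finite G] : PLengthLE p 0 G ↔ (Nat.card G).Coprime p := by
  rw [PLengthLE, Nat.mul_zero, Nat.zero_add, upperPSeries_one, pPrimeCore_eq_top_iff]

/-- Image of a relative index under a map with kernel in the smaller subgroup. -/
theorem relIndex_comap_of_surjective (f : G →* H) (hf : Function.Surjective f) (A B : Subgroup H) :
    (A.comap f).relIndex (B.comap f) = A.relIndex B := by
  rw [relIndex_comap, map_comap_eq_self_of_surjective hf]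

theorem comap_upperPSeries_le_add [Finite G] [Fact p.Prime] (f : G →* H) (hf : Function.Surjective f)
    {d a : ℕ} (hd : Even d) (ha : (upperPSeries p H a).1.comap f ≤ (upperPSeries p G (a + d)).1)
    (n : ℕ) : (upperPSeries p H (a + n)).1.comap f ≤ (upperPSeries p G (a + n + d)).1 := by
  have : Finite H := Finite.of_surjective f hf
  induction n with
  | zero => exact ha
  | succ n ih =>
    have h := relIndex_comap_of_surjective f hf (upperPSeries p H (a + n)).1
      (upperPSeries p H (a + (n + 1))).1
    rw [show a + (n + 1) + d = a + n + d + 1 by omega]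
    by_cases hn : Even (a + n)
    · exact le_upperPSeries_succ_of_coprime (hn.add hd) ih (h ▸ relIndex_upperPSeries_of_even hn)
    · obtain ⟨m, hm⟩ := relIndex_upperPSeries_of_odd (G := H) (p := p) hn
      have hnd : ¬ Even (a + n + d) := fun h' => hn ((Nat.even_add.1 h').2 hd)
      exact le_upperPSeries_succ_of_pow hnd ih (dvd_of_eq (h.trans hm))

/-- A quotient by a `p'`-subgroup has the same `p`-length. -/
theorem pLengthLE_of_ker_le_pPrimeCore [Finite G] [Fact p.Prime] (f : G →* H)
    (hf : Function.Surjective f) (hk : f.ker ≤ pPrimeCore p G) {k : ℕ} (h : PLengthLE p k H) :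
    PLengthLE p k G := by
  have : Finite H := Finite.of_surjective f hf
  have h1 : (upperPSeries p H 1).1.comap f ≤ (upperPSeries p G (1 + 0)).1 := by
    rw [upperPSeries_one, Nat.add_zero, upperPSeries_one]
    exact (comap_pPrimeCore_of_ker f hf (coprime_card_pPrimeCore.coprime_dvd_left
      (card_dvd_of_le hk))).le
  have h2 := comap_upperPSeries_le_add f hf Even.zero h1 (2 * k)
  rw [Nat.add_zero, Nat.add_comm 1, h, comap_top] at h2
  exact top_le_iff.1 h2

theorem pCore_le_upperPSeries_two [Finite G] [Fact p.Prime] :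
    pCore p G ≤ (upperPSeries p G 2).1 := by
  rw [upperPSeries_two]
  exact pCore_le_pPrimePCore

/-- A quotient by a normal `p`-subgroup raises the `p`-length by at most one. -/
theorem pLengthLE_succ_of_isPGroup_ker [Finite G] [Fact p.Prime] (f : G →* H)
    (hf : Function.Surjective f) (hk : f.ker ≤ pCore p G) {k : ℕ} (h : PLengthLE p k H) :
    PLengthLE p (k + 1) G := by
  have h0 : (upperPSeries p H 0).1.comap f ≤ (upperPSeries p G (0 + 2)).1 := by
    rw [upperPSeries_zero, MonoidHom.comap_bot]
    exact hk.trans pCore_le_upperPSeries_two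
  have h2 := comap_upperPSeries_le_add f hf even_two h0 (2 * k + 1)
  rw [Nat.zero_add, h, comap_top] at h2
  exact top_le_iff.1 h2

/-- If `O_{p'}(G) = 1` and `G` has `p`-length `≤ k + 1` then `G / O_p(G)` has `p`-length `≤ k`. -/
theorem pLengthLE_of_pCore [Finite G] [Fact p.Prime] (f : G →* H) (hf : Function.Surjective f)
    (hk : pCore p G ≤ f.ker) (hbot : pPrimeCore p G = ⊥) {k : ℕ} (h : PLengthLE p (k + 1) G) :
    PLengthLE p k H := by
  have : Finite H := Finite.of_surjective f hf
  suffices H' : ∀ n, (upperPSeries p G (n + 2)).1.map f ≤ (upperPSeries p H n).1 by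
    have h2 := H' (2 * k + 1)
    rw [show 2 * k + 1 + 2 = 2 * (k + 1) + 1 by omega, h, map_top_of_surjective f hf] at h2
    exact top_le_iff.1 h2
  intro n
  induction n with
  | zero =>
    rw [upperPSeries_zero, le_bot_iff, Subgroup.map_eq_bot_iff, upperPSeries_two,
      pPrimePCore_eq_pCore hbot]
    exact hk
  | succ n ih =>
    haveI hB : ((upperPSeries p G (n + 1 + 2)).1.map f).Normal :=
      (upperPSeries p G (n + 1 + 2)).2.map f hf
    have hdvd : ((upperPSeries p G (n + 2)).1.map f).relIndex ((upperPSeries p G (n + 1 + 2)).1.map f) ∣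
        (upperPSeries p G (n + 2)).1.relIndex (upperPSeries p G (n + 1 + 2)).1 := by
      rw [← relIndex_comap, comap_map_eq]
      exact Subgroup.relIndex_dvd_of_le_left _ le_sup_left
    rw [show n + 1 + 2 = n + 2 + 1 by omega] at hdvd hB ⊢
    by_cases hn : Even n
    · exact le_upperPSeries_succ_of_coprime hn ih
        ((relIndex_upperPSeries_of_even (hn.add even_two)).coprime_dvd_left hdvd)
    · obtain ⟨m, hm⟩ := relIndex_upperPSeries_of_odd (G := G) (p := p)
        (n := n + 2) (fun h' => hn ((Nat.even_add.1 h').2 even_two))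
      exact le_upperPSeries_succ_of_pow hn ih (hm ▸ hdvd)

/-- The series of a subdirect product. -/
theorem pLengthLE_of_subdirect [Finite G] [Fact p.Prime] {ι : Type w} [Finite ι] {K : ι → Type v}
    [∀ i, Group (K i)] (f : ∀ i, G →* K i) (hf : ∀ i, Function.Surjective (f i))
    (hker : ∀ x, (∀ i, f i x = 1) → x = 1) {k : ℕ} (h : ∀ i, PLengthLE p k (K i)) :
    PLengthLE p k G := by
  classical
  have := Fintype.ofFinite ι
  have : ∀ i, Finite (K i) := fun i => Finite.of_surjective (f i) (hf i)
  suffices H' : ∀ n, (⨅ i, (upperPSeries p (K i) n).1.comap (f i)) ≤ (upperPSeries p G n).1 by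
    refine top_le_iff.1 (le_trans (le_iInf fun i => ?_) (H' (2 * k + 1)))
    rw [h i, comap_top]
  intro n
  induction n with
  | zero =>
    intro x hx
    rw [upperPSeries_zero, Subgroup.mem_bot]
    refine hker x fun i => ?_
    have := Subgroup.mem_iInf.1 hx i
    rwa [upperPSeries_zero, MonoidHom.comap_bot, MonoidHom.mem_ker] at this
  | succ n ih =>
    haveI : (⨅ i, (upperPSeries p (K i) (n + 1)).1.comap (f i)).Normal :=
      normal_iInf_normal fun i => (upperPSeries p (K i) (n + 1)).2.comap (f i)
    let m : ι → ℕ := fun i => (upperPSeries p (K i) n).1.relIndex (upperPSeries p (K i) (n + 1)).1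
    have hpow : ∀ x ∈ (⨅ i, (upperPSeries p (K i) (n + 1)).1.comap (f i)),
        x ^ (∏ i, m i) ∈ ⨅ i, (upperPSeries p (K i) n).1.comap (f i) := by
      intro x hx
      refine Subgroup.mem_iInf.2 fun i => ?_
      rw [Subgroup.mem_comap, map_pow]
      obtain ⟨c, hc⟩ := Finset.dvd_prod_of_mem m (Finset.mem_univ i)
      rw [hc, pow_mul]
      refine pow_mem ?_ c
      haveI : ((upperPSeries p (K i) n).1.subgroupOf (upperPSeries p (K i) (n + 1)).1).Normal :=
        (upperPSeries p (K i) n).2.comap _
      exact Subgroup.pow_index_mem ((upperPSeries p (K i) n).1.subgroupOf (upperPSeries p (K i) (n + 1)).1)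
        (⟨f i x, Subgroup.mem_iInf.1 hx i⟩ : ↥(upperPSeries p (K i) (n + 1)).1)
    have hord : ∀ y ∈ (⨅ i, (upperPSeries p (K i) (n + 1)).1.comap (f i)).map
        (QuotientGroup.mk' (upperPSeries p G n).1), y ^ (∏ i, m i) = 1 := by
      rintro _ ⟨x, hx, rfl⟩
      rw [← map_pow]
      exact (QuotientGroup.eq_one_iff _).2 (ih (hpow x hx))
    haveI hN : ((⨅ i, (upperPSeries p (K i) (n + 1)).1.comap (f i)).map
        (QuotientGroup.mk' (upperPSeries p G n).1)).Normal :=
      Subgroup.Normal.map inferInstance _ (QuotientGroup.mk'_surjective _)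
    by_cases hn : Even n
    · rw [upperPSeries_succ_of_even hn, ← map_le_iff_le_comap]
      refine le_pPrimeCore ?_
      rw [Nat.coprime_comm, (Fact.out : p.Prime).coprime_iff_not_dvd]
      intro hd
      obtain ⟨⟨y, hy⟩, hy'⟩ := exists_prime_orderOf_dvd_card' p hd
      rw [Subgroup.orderOf_mk] at hy'
      have h1 := orderOf_dvd_of_pow_eq_one (hord y hy)
      rw [hy'] at h1
      obtain ⟨i, -, hi⟩ := (Nat.Prime.prime (Fact.out : p.Prime)).exists_mem_finset_dvd h1
      exact ((Fact.out : p.Prime).coprime_iff_not_dvd.1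
        (relIndex_upperPSeries_of_even (G := K i) hn).symm) hi
    · rw [upperPSeries_succ_of_odd hn, ← map_le_iff_le_comap]
      refine le_pCore ?_
      have hm : ∀ i, ∃ a, m i = p ^ a := fun i => relIndex_upperPSeries_of_odd hn
      choose a ha using hm
      rintro ⟨y, hy⟩
      refine ⟨∑ i, a i, Subtype.ext ?_⟩
      rw [SubmonoidClass.coe_pow, OneMemClass.coe_one, ← Finset.prod_pow_eq_pow_sum,
        ← Finset.prod_congr rfl (fun i _ => ha i)]
      exact hord y hy

end Cfsg.Agent.PCore
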