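import Cfsg.Agent.Lib.PCore.HallHigman
import Cfsg.Agent.Lib.Coprime.Commutator
import Cfsg.Agent.Lib.PGroup.Frattini

/-!
# Consequences of Hall–Higman 1.2.3

* `mem_pCore_iff_frattini`: with `C(O_p) ≤ O_p`, `G / O_p` is faithful on `O_p / Φ(O_p)`
* `upperCentralSeries_sylow_le`: the `i`th centre of a Sylow `p`-subgroup of a `p`-solvable group
  lies in term `2i` of the upper `p`-series
* `pLengthLE_nilpotencyClass`, `sylow_center_le_pPrimePCore`
-/

set_option autoImplicit false
set_option linter.style.haveILetI false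

namespace Cfsg.Agent.PCore

open Cfsg Subgroup
open scoped commutatorElement

universe u v

variable {G : Type u} [Group G] {p : ℕ}

theorem isPGroup_of_prime_dvd_eq [Finite G] (hA : ∀ q : ℕ, q.Prime → q ∣ Nat.card G → q = p) :
    IsPGroup p G :=
  IsPGroup.of_card (Nat.eq_prime_pow_of_unique_prime_dvd Nat.card_pos.ne' fun {q} hq hd => hA q hq hd)

/-- `G / O_p(G)` acts faithfully on `O_p(G) / Φ(O_p(G))` when `C(O_p(G)) ≤ O_p(G)`. -/
theorem mem_pCore_iff_frattini [Finite G] [Fact p.Prime]
    (h : centralizer (pCore p G : Set G) ≤ pCore p G) {g : G} :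
    (∀ x ∈ pCore p G, g * x * g⁻¹ * x⁻¹ ∈ (frattini (pCore p G)).map (pCore p G).subtype) ↔
      g ∈ pCore p G := by
  set O := pCore p G with hO
  have hOp : IsPGroup p O := isPGroup_pCore
  constructor
  · intro hg
    set Φ := (frattini O).map O.subtype with hΦ
    haveI : Φ.Normal := by rw [hΦ]; infer_instance
    haveI hOn : O.Normal := pCore_normal
    haveI := hOn.map (QuotientGroup.mk' Φ) (QuotientGroup.mk'_surjective _)
    set A := (centralizer (O.map (QuotientGroup.mk' Φ) : Set (G ⧸ Φ))).comap (QuotientGroup.mk' Φ)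
      with hA
    have hmem : ∀ b, b ∈ A ↔ ∀ x ∈ O, b * x * b⁻¹ * x⁻¹ ∈ Φ := by
      intro b
      rw [hA, mem_comap, mem_centralizer_iff]
      constructor
      · intro hb x hx
        rw [← QuotientGroup.eq_one_iff]
        have := hb _ ⟨x, hx, rfl⟩
        simp only [QuotientGroup.mk'_apply] at this
        simp [← this]
      · rintro hb _ ⟨x, hx, rfl⟩
        have := (QuotientGroup.eq_one_iff _).mpr (hb x hx)
        simp only [QuotientGroup.mk_mul, QuotientGroup.mk_inv, mul_inv_eq_iff_eq_mul, one_mul] at this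
        exact this.symm
    haveI : A.Normal := inferInstance
    refine le_pCore (N := A) (isPGroup_of_prime_dvd_eq fun q hq hd => ?_) ((hmem g).mpr hg)
    by_contra hqp
    haveI := Fact.mk hq
    obtain ⟨⟨b, hbA⟩, hb⟩ := exists_prime_orderOf_dvd_card' (G := A) q hd
    rw [Subgroup.orderOf_mk] at hb
    have hcop : (Nat.card (zpowers b)).Coprime (Nat.card (frattini O)) := by
      obtain ⟨k, hk⟩ := IsPGroup.iff_card.mp (hOp.to_subgroup (frattini O))
      rw [Nat.card_zpowers, hb, hk]
      exact Nat.Coprime.pow_right k ((Nat.coprime_primes hq Fact.out).mpr hqp)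
    have hbC := Coprime.le_centralizer_of_frattini (A := zpowers b) (K := O)
      (by rw [normalizer_eq_top]; exact le_top) hcop
      fun a ha x hx => (hmem a).mp ((zpowers_le.mpr hbA) ha) x hx
    obtain ⟨k, hk⟩ := hOp ⟨b, h (hbC (mem_zpowers b))⟩
    have hk' : b ^ p ^ k = 1 := congrArg Subtype.val hk
    have h1 := orderOf_dvd_of_pow_eq_one hk'
    rw [hb] at h1
    exact hqp ((Nat.prime_dvd_prime_iff_eq hq Fact.out).mp (hq.dvd_of_dvd_pow h1))
  · intro hg x hx
    exact ⟨⁅(⟨g, hg⟩ : O), ⟨x, hx⟩⁆, PGroup.commutator_le_frattini hOp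
      (commutator_mem_commutator (mem_top _) (mem_top _)), rfl⟩

/-- The `i`th centre of a Sylow `p`-subgroup of a `p`-solvable group lies in term `2i` of the upper
`p`-series. -/
theorem upperCentralSeries_sylow_le [Finite G] [Fact p.Prime] (hsol : IsPSolvable p G)
    (S : Sylow p G) (i : ℕ) :
    (Subgroup.upperCentralSeries ↥(S : Subgroup G) i).map (S : Subgroup G).subtype ≤
      (upperPSeries p G (2 * i)).1 := by
  induction i with
  | zero => simp [Subgroup.upperCentralSeries_zero]
  | succ i ih =>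
    set U := (upperPSeries p G (2 * i + 1)).1 with hU
    have hodd : ¬ Even (2 * i + 1) := by simp [parity_simps]
    rintro _ ⟨z, hz, rfl⟩
    have hcent : (QuotientGroup.mk' U (z : G)) ∈ centralizer (pCore p (G ⧸ U) : Set (G ⧸ U)) := by
      refine mem_centralizer_iff.mpr fun y hy => ?_
      obtain ⟨s, hs, rfl⟩ := pCore_le_sylow (S.mapSurjective (QuotientGroup.mk'_surjective U)) hy
      have h1 : (z : G) * s * (z : G)⁻¹ * s⁻¹ ∈ U :=
        upperPSeries_le_succ (2 * i)
          (ih ⟨_, Subgroup.mem_upperCentralSeries_succ_iff.mp hz ⟨s, hs⟩, rfl⟩)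
      have h2 : QuotientGroup.mk' U ((z : G) * s * (z : G)⁻¹ * s⁻¹) = 1 :=
        (QuotientGroup.eq_one_iff _).mpr h1
      simp only [map_mul, map_inv, mul_inv_eq_iff_eq_mul, one_mul] at h2
      exact h2.symm
    have hle := centralizer_pCore_le (isPSolvable_quotient hsol U)
      (pPrimeCore_quotient_upperPSeries (by simp)) hcent
    rw [show 2 * (i + 1) = (2 * i + 1) + 1 by ring, upperPSeries_succ_of_odd hodd]
    exact hle

/-- The `p`-length is at most the class of a Sylow `p`-subgroup. -/
theorem pLengthLE_nilpotencyClass [Finite G] [Fact p.Prime] (hsol : IsPSolvable p G)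
    (S : Sylow p G) : PLengthLE p (Group.nilpotencyClass ↥(S : Subgroup G)) G := by
  haveI : Group.IsNilpotent ↥(S : Subgroup G) := S.2.isNilpotent
  have h := upperCentralSeries_sylow_le hsol S (Group.nilpotencyClass ↥(S : Subgroup G))
  rw [Subgroup.upperCentralSeries_nilpotencyClass, ← MonoidHom.range_eq_map, range_subtype] at h
  refine top_le_iff.mp (le_upperPSeries_succ_of_coprime (by simp) le_rfl ?_)
  rw [relIndex_top_right]
  exact (((Nat.Prime.coprime_iff_not_dvd Fact.out).mpr S.not_dvd_index).symm).coprime_dvd_left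
    (index_dvd_of_le h)

theorem sylow_center_le_pPrimePCore [Finite G] [Fact p.Prime] (hsol : IsPSolvable p G)
    (S : Sylow p G) : (center ↥(S : Subgroup G)).map (S : Subgroup G).subtype ≤ pPrimePCore p G := by
  have h := upperCentralSeries_sylow_le hsol S 1
  rwa [Subgroup.upperCentralSeries_one, Nat.mul_one, upperPSeries_two] at h

end Cfsg.Agent.PCore
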