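import Cfsg.Agent.Lib.PCore.HallHigman

/-!
# `C(O_{p'}(G)) ≤ O_{p'}(G)` for `p`-solvable groups with `O_p(G) = 1`
-/

set_option autoImplicit false
set_option linter.style.haveILetI false

namespace Cfsg.Agent.PCore

open Cfsg Subgroup

universe u

variable {G : Type u} [Group G] {p : ℕ}

/-- A normal subgroup centralising `O_{p'}(G)` with `p`-image modulo `O_{p'}(G)` lies in `O_{p'}(G)`
when `O_p(G) = 1`. -/
theorem le_pPrimeCore_of_le_centralizer [Finite G] [Fact p.Prime] (h : pCore p G = ⊥)
    (K : Subgroup G) [K.Normal] (hK : K ≤ centralizer (pPrimeCore p G : Set G))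
    {k : ℕ} (hi : (pPrimeCore p G).relIndex K = p ^ k) : K ≤ pPrimeCore p G := by
  set Z := (pPrimeCore p G).subgroupOf K with hZ
  have hZc : (Nat.card Z).Coprime p := by
    refine (coprime_card_pPrimeCore (p := p) (G := G)).coprime_dvd_left ?_
    rw [hZ, ← card_map_of_injective K.subtype_injective, subgroupOf_map_subtype]
    exact card_dvd_of_le inf_le_left
  have hco : (Nat.card Z).Coprime Z.index := by
    rw [show Z.index = p ^ k from hi]
    exact hZc.pow_right k
  obtain ⟨L, hL⟩ := exists_right_complement'_of_coprime hco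
  have hcen : Z ≤ center K := fun z hz => mem_center_iff.mpr fun g =>
    Subtype.ext ((mem_centralizer_iff.mp (hK g.2)) (z : G) hz).symm
  have hLn : L.Normal := by
    rw [← normalizer_eq_top_iff, eq_top_iff, ← hL.sup_eq_top]
    refine sup_le (fun z hz => ?_) le_normalizer
    refine mem_normalizer_iff.mpr fun y => ?_
    rw [← mem_center_iff.mp (hcen hz) y, mul_inv_cancel_right]
  have hLp : IsPGroup p L := IsPGroup.of_card (by rw [← hL.symm.index_eq_card]; exact hi)
  have hL0 : L = ⊥ := by
    have := le_pCore (hN := hLn) hLp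
    rwa [pCore_eq_bot_of_normal K h, le_bot_iff] at this
  rw [← subgroupOf_eq_top, ← hZ, ← hL.sup_eq_top, hL0, sup_bot_eq]

/-- **Hall–Higman 1.2.3** with the roles of `p` and `p'` exchanged. -/
theorem centralizer_pPrimeCore_le [Finite G] [Fact p.Prime] (hs : IsPSolvable p G)
    (h : pCore p G = ⊥) : centralizer (pPrimeCore p G : Set G) ≤ pPrimeCore p G := by
  set C := centralizer (pPrimeCore p G : Set G) with hC
  set π := QuotientGroup.mk' (pPrimeCore p G) with hπ
  haveI hCn : C.Normal := normal_centralizer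
  haveI : (C.map π).Normal := hCn.map π (QuotientGroup.mk'_surjective _)
  by_contra hle
  have hne : C.map π ≠ ⊥ := by
    rw [Ne, Subgroup.map_eq_bot_iff, QuotientGroup.ker_mk']; exact hle
  haveI := (nontrivial_iff_ne_bot _).mpr hne
  have hs' : IsPSolvable p ↥(C.map π) :=
    isPSolvable_of_surjective _ (π.subgroupMap_surjective C) (isPSolvable_subgroup hs C)
  have h1 : pCore p ↥(C.map π) ≠ ⊥ :=
    (pCore_ne_bot_or_pPrimeCore_ne_bot hs').resolve_right
      (not_not.mpr (pPrimeCore_eq_bot_of_normal _ pPrimeCore_quotient_self_eq_bot))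
  set K' := (pCore p ↥(C.map π)).map (C.map π).subtype with hK'
  have hK'n : K'.Normal := by rw [hK']; infer_instance
  haveI := hK'n.comap π
  set K := K'.comap π ⊓ C with hK
  have hKK' : K.map π = K' := by
    refine le_antisymm ((map_mono inf_le_left).trans (map_comap_le _ _)) fun y hy => ?_
    obtain ⟨c, hc, rfl⟩ := (map_subtype_le _ : K' ≤ C.map π) hy
    exact ⟨c, ⟨hy, hc⟩, rfl⟩
  obtain ⟨k, hk⟩ := exists_card_pCore (p := p) (G := ↥(C.map π))
  have hcard : (pPrimeCore p G).relIndex K = p ^ k := by
    rw [relIndex_eq_card_map_mk', ← hπ, hKK', hK', card_map_of_injective (subtype_injective _), hk]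
  have hKle : K ≤ pPrimeCore p G := le_pPrimeCore_of_le_centralizer h K inf_le_right hcard
  refine h1 ((map_eq_bot_iff_of_injective _ (C.map π).subtype_injective).mp ?_)
  rw [← hK', ← hKK', Subgroup.map_eq_bot_iff, hπ, QuotientGroup.ker_mk']
  exact hKle

end Cfsg.Agent.PCore
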