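import Cfsg.Agent.Lib.PCore.HallHigman
import Cfsg.Agent.Lib.LocalChar.Basic

/-!
# Local subgroups of `p`-constrained groups

* `map_normalizer_mk'`: `N_{G/N}(P̄) = \overline{N_G(P)}` for a `p`-group `P`, normal `p'`-group `N`
* `pPrimeCore_eq_bot_of_cp`: `C(O_p) ≤ O_p` implies `O_{p'} = 1`
* `isPConstrained_of_ker`: a surjection with `p'`-kernel onto a group of characteristic `p`
* `isPConstrained_normalizer`, `isPConstrained_centralizer`, `map_pPrimeCore_normalizer`,
  `map_pPrimeCore_centralizer`
-/

set_option autoImplicit false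
set_option linter.style.haveILetI false

namespace Cfsg.Agent.PCore

open Cfsg Subgroup
open scoped Pointwise

universe u v

variable {G : Type u} [Group G] {H : Type v} [Group H] {p : ℕ}

/-- Normalisers of a `p`-subgroup survive factoring out a normal `p'`-subgroup. -/
theorem map_normalizer_mk' [Finite G] [Fact p.Prime] (N : Subgroup G) [N.Normal]
    (hN : (Nat.card N).Coprime p) {P : Subgroup G} (hP : IsPGroup p P) :
    (normalizer (P : Set G)).map (QuotientGroup.mk' N) =
      normalizer (P.map (QuotientGroup.mk' N) : Set (G ⧸ N)) := by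
  refine le_antisymm (P.le_normalizer_map _) fun y hy => ?_
  obtain ⟨x, rfl⟩ := QuotientGroup.mk'_surjective N y
  have hxP : (MulAut.conj x • P).map (QuotientGroup.mk' N) = P.map (QuotientGroup.mk' N) := by
    rw [Coprime.map_conj_smul, Coprime.conj_smul_eq_self_of_mem hy]
  have hle : MulAut.conj x • P ≤ P ⊔ N :=
    le_sup_left.trans (Coprime.map_sup_eq_of_map_quotient_eq hxP).le
  obtain ⟨k, hk⟩ := hP.exists_card_eq
  haveI : Group.IsNilpotent P := hP.isNilpotent
  obtain ⟨n, hn, hnP⟩ := Coprime.exists_conj_eq_of_le_sup (N := N) (H := P) (K := MulAut.conj x • P)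
    (by rw [normalizer_eq_top]; exact le_top) hle (Coprime.card_conj_smul x P)
    (by rw [hk]; exact Nat.Coprime.pow_left k hN.symm) (Or.inr inferInstance)
  refine ⟨n⁻¹ * x, ?_, by simp [(QuotientGroup.eq_one_iff n).mpr hn]⟩
  have h : MulAut.conj (n⁻¹ * x) • P = P := by
    rw [← Coprime.conj_smul_smul, ← hnP, Coprime.conj_smul_smul, inv_mul_cancel, map_one, one_smul]
  refine mem_normalizer_iff''.mpr fun a => ?_
  conv_lhs => rw [← h]
  rw [Coprime.mem_conj_smul_iff]

/-- A group of characteristic `p` has trivial `p'`-core. -/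
theorem pPrimeCore_eq_bot_of_cp [Finite G] (h : centralizer (pCore p G : Set G) ≤ pCore p G) :
    pPrimeCore p G = ⊥ :=
  le_bot_iff.mp <| pCore_inf_pPrimeCore.le.trans' <|
    le_inf (pPrimeCore_le_centralizer_pCore.trans h) le_rfl

/-- A surjection with kernel of order prime to `p` onto a group of characteristic `p`: the kernel is
`O_{p'}` and the source is `p`-constrained. -/
theorem ker_eq_pPrimeCore [Finite H] (f : G →* H) (hf : Function.Surjective f)
    (hker : (Nat.card f.ker).Coprime p) (h : pPrimeCore p H = ⊥) : f.ker = pPrimeCore p G := by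
  rw [← comap_pPrimeCore_of_ker f hf hker, h, MonoidHom.comap_bot]

theorem isPConstrained_of_ker [Finite G] [Fact p.Prime] (f : G →* H) (hf : Function.Surjective f)
    (hker : (Nat.card f.ker).Coprime p) (h : centralizer (pCore p H : Set H) ≤ pCore p H) :
    IsPConstrained p G := by
  haveI := Finite.of_surjective f hf
  have hk := ker_eq_pPrimeCore f hf hker (pPrimeCore_eq_bot_of_cp h)
  exact isPConstrained_iff.mpr (centralizer_pCore_le_congr
    ((QuotientGroup.quotientMulEquivOfEq hk.symm).trans
      (QuotientGroup.quotientKerEquivOfSurjective f hf)).symm h)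

theorem ker_subgroupMap_mk' [Finite G] (K : Subgroup G) :
    (Nat.card ((QuotientGroup.mk' (pPrimeCore p G)).subgroupMap K).ker).Coprime p := by
  refine (coprime_card_pPrimeCore (G := G)).coprime_dvd_left ?_
  rw [← card_map_of_injective K.subtype_injective]
  refine card_dvd_of_le ?_
  rintro _ ⟨x, hx, rfl⟩
  rw [← QuotientGroup.ker_mk' (pPrimeCore p G)]
  exact congrArg Subtype.val hx

theorem cp_map_normalizer [Finite G] [Fact p.Prime] (hG : IsPConstrained p G) {P : Subgroup G}
    (hP : IsPGroup p P) :
    LocalChar.CP p ↥((normalizer (P : Set G)).map (QuotientGroup.mk' (pPrimeCore p G))) := by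
  rw [map_normalizer_mk' _ coprime_card_pPrimeCore hP]
  exact LocalChar.cp_normalizer_of_centralizer (hP.map _)
    (LocalChar.cp_centralizer (isPConstrained_iff.mp hG) (hP.map _))

theorem cp_map_centralizer [Finite G] [Fact p.Prime] (hG : IsPConstrained p G) {P : Subgroup G}
    (hP : IsPGroup p P) :
    LocalChar.CP p ↥((centralizer (P : Set G)).map (QuotientGroup.mk' (pPrimeCore p G))) := by
  rw [map_centralizer_mk' _ coprime_card_pPrimeCore hP]
  exact LocalChar.cp_centralizer (isPConstrained_iff.mp hG) (hP.map _)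

theorem isPConstrained_normalizer [Finite G] [Fact p.Prime] (hG : IsPConstrained p G)
    {P : Subgroup G} (hP : IsPGroup p P) : IsPConstrained p ↥(normalizer (P : Set G)) :=
  isPConstrained_of_ker _ (MonoidHom.subgroupMap_surjective _ _) (ker_subgroupMap_mk' _)
    (cp_map_normalizer hG hP)

theorem isPConstrained_centralizer [Finite G] [Fact p.Prime] (hG : IsPConstrained p G)
    {P : Subgroup G} (hP : IsPGroup p P) : IsPConstrained p ↥(centralizer (P : Set G)) :=
  isPConstrained_of_ker _ (MonoidHom.subgroupMap_surjective _ _) (ker_subgroupMap_mk' _)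
    (cp_map_centralizer hG hP)

/-- In a `p`-constrained group `O_{p'}(N_G(P)) = O_{p'}(G) ∩ N_G(P)`. -/
theorem map_pPrimeCore_normalizer [Finite G] [Fact p.Prime] (hG : IsPConstrained p G)
    {P : Subgroup G} (hP : IsPGroup p P) :
    (pPrimeCore p ↥(normalizer (P : Set G))).map (normalizer (P : Set G)).subtype =
      pPrimeCore p G ⊓ normalizer (P : Set G) := by
  refine le_antisymm (le_inf ?_ (map_subtype_le _)) (pPrimeCore_inf_le _)
  rw [← ker_eq_pPrimeCore _ (MonoidHom.subgroupMap_surjective _ _) (ker_subgroupMap_mk' _)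
    (pPrimeCore_eq_bot_of_cp (cp_map_normalizer hG hP))]
  rintro _ ⟨x, hx, rfl⟩
  rw [← QuotientGroup.ker_mk' (pPrimeCore p G)]
  exact congrArg Subtype.val hx

/-- In a `p`-constrained group `O_{p'}(C_G(P)) = O_{p'}(G) ∩ C_G(P)`. -/
theorem map_pPrimeCore_centralizer [Finite G] [Fact p.Prime] (hG : IsPConstrained p G)
    {P : Subgroup G} (hP : IsPGroup p P) :
    (pPrimeCore p ↥(centralizer (P : Set G))).map (centralizer (P : Set G)).subtype =
      pPrimeCore p G ⊓ centralizer (P : Set G) := by
  refine le_antisymm (le_inf ?_ (map_subtype_le _)) (pPrimeCore_inf_le _)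
  rw [← ker_eq_pPrimeCore _ (MonoidHom.subgroupMap_surjective _ _) (ker_subgroupMap_mk' _)
    (pPrimeCore_eq_bot_of_cp (cp_map_centralizer hG hP))]
  rintro _ ⟨x, hx, rfl⟩
  rw [← QuotientGroup.ker_mk' (pPrimeCore p G)]
  exact congrArg Subtype.val hx

end Cfsg.Agent.PCore
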