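import Cfsg.Agent.Lib.PCore.HallHigman
import Cfsg.Agent.Lib.PCore.PSolvable
import Cfsg.Prelude.Def_Blocks
import Mathlib.GroupTheory.SpecificGroups.Cyclic

/-!
# Pairs of elements of order p generating a p-solvable group with abelian p-subgroups
-/

set_option autoImplicit false
open Cfsg

namespace Cfsg.Agent.PCore

variable {G : Type*} [Group G] [Finite G] {p : ℕ} [hp : Fact p.Prime]

/-- In a p-solvable group with abelian p-subgroups, the image of every p-element modulo the
p'-core lies in the p-core. -/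
theorem mk_mem_pCore_of_abelian {H : Type*} [Group H] [Finite H]
    (hab : ∀ R : Subgroup H, IsPGroup p R → IsMulCommutative R) (hs : IsPSolvable p H)
    {z : H} (hz : IsPGroup p (Subgroup.zpowers z)) :
    QuotientGroup.mk' (pPrimeCore p H) z ∈ pCore p (H ⧸ pPrimeCore p H) := by
  set K := pPrimeCore p H
  set π := QuotientGroup.mk' K
  obtain ⟨R, hR⟩ := hz.exists_le_sylow
  let R' : Sylow p (H ⧸ K) := R.mapSurjective (QuotientGroup.mk'_surjective K)
  have hmem : π z ∈ (R' : Subgroup (H ⧸ K)) :=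
    Subgroup.mem_map_of_mem _ (hR (Subgroup.mem_zpowers z))
  refine centralizer_pCore_le (isPSolvable_quotient hs K) pPrimeCore_quotient_self_eq_bot ?_
  rw [Subgroup.mem_centralizer_iff]
  intro c hc
  obtain ⟨c0, hc0, rfl⟩ := Subgroup.mem_map.1 ((pCore_le_sylow R' hc) : c ∈ (R : Subgroup H).map π)
  have hcomm := (hab (R : Subgroup H) R.2).is_comm.comm
    ⟨c0, hc0⟩ ⟨z, hR (Subgroup.mem_zpowers z)⟩
  rw [← map_mul, ← map_mul]
  exact congrArg π (congrArg Subtype.val hcomm)

/-- If `y` agrees with `x ^ i` and with `x ^ j` up to a p-regular factor then `x ^ i = x ^ j`. -/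
theorem pow_eq_pow_of_regular (hab : ∀ R : Subgroup G, IsPGroup p R → IsMulCommutative R)
    {x y : G} (hx : orderOf x = p) (hy : orderOf y = p)
    (hs : IsPSolvable p (Subgroup.closure ({x, y} : Set G))) {i j : ℕ}
    (hi : IsPRegular p ((x ^ i)⁻¹ * y)) (hj : IsPRegular p ((x ^ j)⁻¹ * y)) : x ^ i = x ^ j := by
  set H := Subgroup.closure ({x, y} : Set G) with hH
  have habH : ∀ R : Subgroup H, IsPGroup p R → IsMulCommutative R := fun R hR =>
    ⟨⟨fun a b => by
      have h := congrArg Subtype.val ((hab (R.map H.subtype) (hR.map _)).is_comm.comm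
        ⟨_, Subgroup.mem_map_of_mem H.subtype a.2⟩ ⟨_, Subgroup.mem_map_of_mem H.subtype b.2⟩)
      exact Subtype.ext (Subtype.ext h)⟩⟩
  let x' : H := ⟨x, Subgroup.subset_closure (by simp)⟩
  let y' : H := ⟨y, Subgroup.subset_closure (by simp)⟩
  set K := pPrimeCore p H
  set π := QuotientGroup.mk' K
  have hcard : ∀ z : H, orderOf (z : G) = p → IsPGroup p (Subgroup.zpowers z) := fun z hz =>
    IsPGroup.of_card (n := 1) (by rw [Nat.card_zpowers, ← Subgroup.orderOf_coe, hz, pow_one])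
  have hx' := mk_mem_pCore_of_abelian habH hs (hcard x' hx)
  have hy' := mk_mem_pCore_of_abelian habH hs (hcard y' hy)
  have hone : ∀ z : H, IsPRegular p z → π z ∈ pCore p (H ⧸ K) → π z = 1 := by
    intro z hz hz'
    obtain ⟨k, hk⟩ := isPGroup_pCore (p := p) (G := H ⧸ K) ⟨π z, hz'⟩
    have h1 : π z ^ p ^ k = 1 := congrArg Subtype.val hk
    exact orderOf_eq_one_iff.1 (Nat.eq_one_of_dvd_coprimes
      (((Nat.Prime.coprime_iff_not_dvd hp.out).2 hz).pow_left k)
      (orderOf_dvd_of_pow_eq_one h1) (orderOf_map_dvd π z))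
  have key : ∀ k : ℕ, IsPRegular p ((x ^ k)⁻¹ * y) → π (x' ^ k) = π y' := fun k hk => by
    have h1 := hone ((x' ^ k)⁻¹ * y') (by
      rw [IsPRegular, ← Subgroup.orderOf_coe]; exact hk) (by
      rw [map_mul, map_inv, map_pow]
      exact mul_mem (inv_mem (pow_mem hx' k)) hy')
    rw [map_mul, map_inv] at h1
    exact inv_mul_eq_one.1 h1
  have h2 : ((x' ^ i)⁻¹ * x' ^ j : H) ∈ K := by
    rw [← QuotientGroup.eq_one_iff]
    show π _ = 1
    rw [map_mul, map_inv, key i hi, key j hj, inv_mul_cancel]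
  have hxp : x' ^ p = 1 := Subtype.ext (show x ^ p = 1 from hx ▸ pow_orderOf_eq_one x)
  have h3 : ((x' ^ i)⁻¹ * x' ^ j) ^ p = (1 : H) := by
    rw [((Commute.pow_pow_self x' i j).inv_left).mul_pow, inv_pow, ← pow_mul, ← pow_mul,
      mul_comm i, mul_comm j, pow_mul, pow_mul, hxp]
    simp
  have h4 := orderOf_eq_one_iff.1 (Nat.eq_one_of_dvd_coprimes
    (coprime_card_pPrimeCore (p := p) (G := H))
    (Subgroup.orderOf_dvd_natCard K h2) (orderOf_dvd_of_pow_eq_one h3))
  exact inv_mul_eq_one.1 (congrArg Subtype.val h4)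

end Cfsg.Agent.PCore
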