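import Mathlib.Algebra.CharP.Lemmas
import Mathlib.Algebra.Ring.Subring.Basic
import Mathlib.FieldTheory.Finite.Basic
import Mathlib.Tactic.NoncommRing

/-!
The norm operator `1 + X + ⋯ + X^(p^(n+1)-1)` of an element of order dividing `p^(n+1)` is non-zero
as soon as `X^(p^n)` does not centralise some abelian `p'`-group of units normalised by `X`.
-/

set_option autoImplicit false

namespace Cfsg.Agent.NormOperator

open Finset

variable {R : Type*} [Ring R]

theorem exists_frobenius_fixed {p : ℕ} [hp : Fact p.Prime] {S : Subgroup Rˣ} [Finite S]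
    (hco : ¬ p ∣ Nat.card S) :
    ∃ f, 0 < f ∧ ∀ s ∈ S, ((s : R)) ^ p ^ f = (s : R) := by
  refine ⟨Nat.totient (Nat.card S), Nat.totient_pos.mpr Nat.card_pos, fun s hs => ?_⟩
  have h1 : p ^ Nat.totient (Nat.card S) ≡ 1 [MOD Nat.card S] :=
    Nat.ModEq.pow_totient (hp.out.coprime_iff_not_dvd.mpr hco)
  have h2 : (⟨s, hs⟩ : S) ^ p ^ Nat.totient (Nat.card S) = ⟨s, hs⟩ := by
    conv_rhs => rw [← pow_one (⟨s, hs⟩ : S)]
    exact pow_eq_pow_iff_modEq.mpr (h1.of_dvd (orderOf_dvd_natCard _))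
  have h3 := congrArg (fun t : S => ((t : Rˣ) : R)) h2
  simpa using h3

theorem commute_closure {s : Set R} (h : ∀ a ∈ s, ∀ b ∈ s, Commute a b) {a b : R}
    (ha : a ∈ Subring.closure s) (hb : b ∈ Subring.closure s) : Commute a b := by
  have h1 : ∀ c ∈ s, Commute a c := by
    intro c hc
    induction ha using Subring.closure_induction with
    | mem y hy => exact h y hy c hc
    | zero => exact Commute.zero_left _
    | one => exact Commute.one_left _
    | add x y _ _ hx hy => exact hx.add_left hy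
    | neg x _ hx => exact hx.neg_left
    | mul x y _ _ hx hy => exact hx.mul_left hy
  induction hb using Subring.closure_induction with
  | mem y hy => exact h1 y hy
  | zero => exact Commute.zero_right _
  | one => exact Commute.one_right _
  | add x y _ _ hx hy => exact hx.add_right hy
  | neg x _ hx => exact hx.neg_right
  | mul x y _ _ hx hy => exact hx.mul_right hy

theorem pow_eq_self_closure {p f : ℕ} [hp : Fact p.Prime] [CharP R p] {s : Set R}
    (hc : ∀ a ∈ s, ∀ b ∈ s, Commute a b) (hs : ∀ a ∈ s, a ^ p ^ f = a) {a : R}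
    (ha : a ∈ Subring.closure s) : a ^ p ^ f = a := by
  have h0 : p ^ f ≠ 0 := pow_ne_zero _ hp.out.ne_zero
  induction ha using Subring.closure_induction with
  | mem y hy => exact hs y hy
  | zero => exact zero_pow h0
  | one => exact one_pow _
  | add x y hx hy ihx ihy =>
    rw [add_pow_char_pow_of_commute _ _ (commute_closure hc hx hy), ihx, ihy]
  | neg x hx ihx =>
    have h := add_pow_char_pow_of_commute p f ((Commute.refl x).neg_left)
    rw [neg_add_cancel, zero_pow h0, ihx] at h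
    exact eq_neg_of_add_eq_zero_left h.symm
  | mul x y hx hy ihx ihy => rw [(commute_closure hc hx hy).mul_pow, ihx, ihy]

theorem exists_congr_mul {p : ℕ} [hp : Fact p.Prime] {n d : ℕ} (hd : d ≠ 0) (hlt : d < p ^ (n + 1)) :
    ∃ k, d * k ≡ p ^ n [MOD p ^ (n + 1)] := by
  obtain ⟨t, u, hu, rfl⟩ := Nat.exists_eq_pow_mul_and_not_dvd hd p hp.out.ne_one
  have htn : t ≤ n := by
    by_contra h
    have h1 : p ^ (n + 1) ≤ p ^ t := Nat.pow_le_pow_right hp.out.pos (by omega)
    have h2 : p ^ t * 1 ≤ p ^ t * u :=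
      Nat.mul_le_mul_left _ (Nat.pos_of_ne_zero fun e => hu (e ▸ dvd_zero p))
    omega
  obtain ⟨w, -, hw⟩ := Nat.exists_mul_mod_eq_one_of_coprime
    ((hp.out.coprime_iff_not_dvd.mpr hu).symm) hp.out.one_lt
  refine ⟨w * p ^ (n - t), ?_⟩
  have he : p ^ t * u * (w * p ^ (n - t)) = p ^ n * (u * w) := by
    calc p ^ t * u * (w * p ^ (n - t)) = p ^ t * p ^ (n - t) * (u * w) := by ring
      _ = p ^ n * (u * w) := by rw [← pow_add, Nat.add_sub_cancel' htn]
  rw [he, pow_succ]
  conv_rhs => rw [← mul_one (p ^ n)]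
  exact Nat.ModEq.mul_left' _ (by rw [Nat.ModEq, hw, Nat.one_mod_eq_one.mpr hp.out.ne_one])

/-- Artin's independence argument under a primitive idempotent. -/
theorem sum_relation_eq_zero {B : Subring R} (hB : ∀ a ∈ B, ∀ b ∈ B, Commute a b) {e : R} (heB : e ∈ B)
    (σ : ℕ → R → R) (hσB : ∀ k, ∀ a ∈ B, σ k a ∈ B)
    (hσmul : ∀ k a b, σ k (a * b) = σ k a * σ k b) (hσone : ∀ k, σ k 1 = 1)
    (hinv : ∀ d ∈ B, e * d ≠ 0 → ∃ d' ∈ B, e * (d' * d) = e)
    (T : Finset ℕ) (hsep : ∀ i ∈ T, ∀ j ∈ T, i ≠ j → ∃ a ∈ B, e * (σ i a - σ j a) ≠ 0)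
    (c : ℕ → R) (hce : ∀ i ∈ T, e * c i = c i) (hrel : ∀ b ∈ B, ∑ i ∈ T, σ i b * c i = 0) :
    ∀ i ∈ T, c i = 0 := by
  classical
  induction hn : T.card using Nat.strong_induction_on generalizing T c with
  | _ n ih =>
    subst hn
    intro i hi
    by_cases hj : ∃ j ∈ T, j ≠ i
    · obtain ⟨j, hjT, hji⟩ := hj
      obtain ⟨a, haB, ha⟩ := hsep i hi j hjT hji.symm
      have hd := sub_mem (hσB i a haB) (hσB j a haB)
      have key : ∀ k ∈ T.erase j, (σ k a - σ j a) * c k = 0 := by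
        refine ih (T.erase j).card (Finset.card_lt_card (Finset.erase_ssubset hjT)) (T.erase j)
          (fun i hi j hj => hsep i (Finset.mem_of_mem_erase hi) j (Finset.mem_of_mem_erase hj))
          (fun k => (σ k a - σ j a) * c k) (fun k hk => ?_) (fun b hb => ?_) rfl
        · rw [← mul_assoc, (hB e heB _ (sub_mem (hσB k a haB) (hσB j a haB))).eq, mul_assoc,
            hce k (Finset.mem_of_mem_erase hk)]
        · have h1 : ∑ k ∈ T, σ k b * ((σ k a - σ j a) * c k) = 0 := by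
            have h2 : ∀ k ∈ T, σ k b * ((σ k a - σ j a) * c k) =
                σ k (a * b) * c k - σ j a * (σ k b * c k) := by
              intro k _
              rw [hσmul, (hB _ (hσB k a haB) _ (hσB k b hb)).eq, ← mul_assoc (σ j a),
                (hB _ (hσB j a haB) _ (hσB k b hb)).eq]
              noncomm_ring
            rw [Finset.sum_congr rfl h2, Finset.sum_sub_distrib, ← Finset.mul_sum,
              hrel _ (B.mul_mem haB hb), hrel b hb, mul_zero, sub_zero]
          rwa [← Finset.add_sum_erase _ _ hjT, sub_self, zero_mul, mul_zero, zero_add] at h1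
      obtain ⟨d', hd'B, hd'⟩ := hinv _ hd ha
      rw [← hce i hi, ← hd', mul_assoc, mul_assoc, key i (Finset.mem_erase.mpr ⟨hji.symm, hi⟩),
        mul_zero, mul_zero]
    · push Not at hj
      have hT : T = {i} := by
        ext k
        exact ⟨fun hk => Finset.mem_singleton.mpr (hj k hk), fun hk => Finset.mem_singleton.mp hk ▸ hi⟩
      have := hrel 1 B.one_mem
      rwa [hT, Finset.sum_singleton, hσone, one_mul] at this

/-- A minimal non-zero idempotent below a given one. -/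
theorem exists_minimal_idempotent [Finite R] {B : Subring R} (hB : ∀ a ∈ B, ∀ b ∈ B, Commute a b)
    {g : R} (hgB : g ∈ B) (hg : g * g = g) (hg0 : g ≠ 0) :
    ∃ e ∈ B, e * e = e ∧ e ≠ 0 ∧ e * g = e ∧ ∀ e' ∈ B, e' * e' = e' → e * e' ≠ 0 → e * e' = e := by
  classical
  obtain ⟨e, ⟨heB, hee, he0, heg⟩, hmin⟩ := (Set.toFinite {e : R | e ∈ B ∧ e * e = e ∧ e ≠ 0 ∧ e * g = e})
    |>.exists_minimalFor (fun e => Set.ncard {h : R | h ∈ B ∧ h * e = h}) _ ⟨g, hgB, hg, hg0, hg⟩
  refine ⟨e, heB, hee, he0, heg, fun e' he' hidem hne => ?_⟩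
  have c1 := (hB e heB e' he').eq
  have hmem : e * e' ∈ B := B.mul_mem heB he'
  have hidem' : e * e' * (e * e') = e * e' := by
    calc e * e' * (e * e') = e * (e' * e) * e' := by noncomm_ring
      _ = e * e * (e' * e') := by rw [← c1]; noncomm_ring
      _ = _ := by rw [hee, hidem]
  have hbelow : e * e' * g = e * e' := by
    rw [c1, mul_assoc, heg]
  have habs : e * e' * e = e * e' := by rw [mul_assoc, ← c1, ← mul_assoc, hee]
  have hsub : {h : R | h ∈ B ∧ h * (e * e') = h} ⊆ {h : R | h ∈ B ∧ h * e = h} := by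
    rintro h ⟨hh, hh'⟩
    refine ⟨hh, ?_⟩
    calc h * e = h * (e * e') * e := by rw [hh']
      _ = h * (e * e') := by rw [mul_assoc, habs]
      _ = h := hh'
  have heq := Set.eq_of_subset_of_ncard_le hsub
    (hmin ⟨hmem, hidem', hne, hbelow⟩ (Set.ncard_le_ncard hsub (Set.toFinite _))) (Set.toFinite _)
  have he2 : e ∈ {h : R | h ∈ B ∧ h * (e * e') = h} := heq ▸ ⟨heB, hee⟩
  calc e * e' = e * e * e' := by rw [hee]
    _ = e * (e * e') := mul_assoc _ _ _
    _ = e := he2.2

/-- The norm operator is non-zero. -/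
theorem sum_pow_ne_zero [Finite R] {p : ℕ} [hp : Fact p.Prime] [CharP R p] (S : Subgroup Rˣ)
    (hco : ¬ p ∣ Nat.card S) (hSc : ∀ a ∈ S, ∀ b ∈ S, Commute a b)
    (x : Rˣ) (hxS : ∀ s ∈ S, x * s * x⁻¹ ∈ S) {n : ℕ} (hx : x ^ p ^ (n + 1) = 1)
    (hne : ∃ s ∈ S, x ^ p ^ n * s ≠ s * x ^ p ^ n) :
    ∑ i ∈ range (p ^ (n + 1)), (x : R) ^ i ≠ 0 := by
  classical
  intro hsum
  obtain ⟨f, hf0, hf⟩ := exists_frobenius_fixed hco
  set P := p ^ f
  have hP2 : 2 ≤ P := le_trans hp.out.two_le (Nat.le_self_pow hf0.ne' p)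
  set s₀ : Set R := Units.val '' (S : Set Rˣ)
  set B := Subring.closure s₀
  have hs₀c : ∀ a ∈ s₀, ∀ b ∈ s₀, Commute a b := by
    rintro _ ⟨a, ha, rfl⟩ _ ⟨b, hb, rfl⟩
    exact congrArg Units.val (hSc a ha b hb).eq
  have hB : ∀ a ∈ B, ∀ b ∈ B, Commute a b := fun a ha b hb => commute_closure hs₀c ha hb
  have hfix : ∀ a ∈ B, a ^ P = a := fun a ha => pow_eq_self_closure hs₀c
    (by rintro _ ⟨s, hs, rfl⟩; exact hf s hs) ha
  have hπ : ∀ a ∈ B, a ^ (P - 1) * a ^ (P - 1) = a ^ (P - 1) ∧ a ^ (P - 1) * a = a := by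
    intro a ha
    constructor
    · rw [← pow_add, show P - 1 + (P - 1) = P + (P - 2) by omega, pow_add, hfix a ha, ← pow_succ',
        show P - 2 + 1 = P - 1 by omega]
    · rw [← pow_succ, show P - 1 + 1 = P by omega, hfix a ha]
  let σ : ℕ → R → R := fun k a => ((x ^ k : Rˣ) : R) * a * (((x ^ k)⁻¹ : Rˣ) : R)
  have hσmul : ∀ k a b, σ k (a * b) = σ k a * σ k b := fun k a b => by
    simp only [σ, mul_assoc, Units.inv_mul_cancel_left]
  have hσone : ∀ k, σ k 1 = 1 := fun k => by simp only [σ, mul_one]; exact (x ^ k).mul_inv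
  have hσs : ∀ k, ∀ s ∈ S, x ^ k * s * (x ^ k)⁻¹ ∈ S := by
    intro k
    induction k with
    | zero => intro s hs; simpa using hs
    | succ k ih =>
      intro s hs
      have := hxS _ (ih s hs)
      rwa [show x * (x ^ k * s * (x ^ k)⁻¹) * x⁻¹ = x ^ (k + 1) * s * (x ^ (k + 1))⁻¹ by
        rw [pow_succ', mul_inv_rev]; group] at this
  have hσB : ∀ k, ∀ a ∈ B, σ k a ∈ B := by
    intro k a ha
    induction ha using Subring.closure_induction with
    | mem y hy =>
      obtain ⟨s, hs, rfl⟩ := hy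
      exact Subring.subset_closure ⟨_, hσs k s hs, by simp [σ]⟩
    | zero => simp [σ]
    | one => rw [hσone]; exact B.one_mem
    | add u v _ _ hu hv =>
      rw [show σ k (u + v) = σ k u + σ k v by simp [σ, mul_add, add_mul]]; exact B.add_mem hu hv
    | neg u _ hu => rw [show σ k (-u) = -σ k u by simp [σ]]; exact B.neg_mem hu
    | mul u v _ _ hu hv => rw [hσmul]; exact B.mul_mem hu hv
  have hσadd : ∀ i j a, σ (i + j) a = σ i (σ j a) := fun i j a => by
    simp only [σ, pow_add, mul_inv_rev, Units.val_mul, mul_assoc]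
  have hσper : ∀ i j, i ≡ j [MOD p ^ (n + 1)] → σ i = σ j := fun i j h => by
    have : x ^ i = x ^ j := pow_eq_pow_iff_modEq.mpr (h.of_dvd (orderOf_dvd_of_pow_eq_one hx))
    simp only [σ, this]
  obtain ⟨s, hs, hsne⟩ := hne
  set b₀ := σ (p ^ n) (s : R) - (s : R) with hb₀
  have hsB : (s : R) ∈ B := Subring.subset_closure ⟨s, hs, rfl⟩
  have hb₀B : b₀ ∈ B := B.sub_mem (hσB _ _ hsB) hsB
  have hb₀0 : b₀ ≠ 0 := by
    intro h
    rw [hb₀, sub_eq_zero] at h
    apply hsne
    have h' : x ^ p ^ n * s * (x ^ p ^ n)⁻¹ = s := Units.ext (by simpa [σ] using h)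
    exact mul_inv_eq_iff_eq_mul.mp h'
  obtain ⟨e, heB, hee, he0, heg, hmin⟩ := exists_minimal_idempotent hB (B.pow_mem hb₀B _)
    (hπ b₀ hb₀B).1 (fun h => hb₀0 (by rw [← (hπ b₀ hb₀B).2, h, zero_mul]))
  have heb₀ : e * b₀ ≠ 0 := fun h => he0 (by
    rw [← heg, show P - 1 = (P - 2) + 1 by omega, pow_succ', ← mul_assoc, h, zero_mul])
  have hinv : ∀ d ∈ B, e * d ≠ 0 → ∃ d' ∈ B, e * (d' * d) = e := by
    intro d hd hed
    refine ⟨d ^ (P - 2), B.pow_mem hd _, ?_⟩
    rw [← pow_succ, show P - 2 + 1 = P - 1 by omega]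
    refine hmin _ (B.pow_mem hd _) (hπ d hd).1 fun h => hed ?_
    rw [← (hπ d hd).2, ← mul_assoc, h, zero_mul]
  have hsep : ∀ i ∈ range (p ^ (n + 1)), ∀ j ∈ range (p ^ (n + 1)), i ≠ j →
      ∃ a ∈ B, e * (σ i a - σ j a) ≠ 0 := by
    intro i hi j hj hij
    by_contra hcon
    push Not at hcon
    rw [Finset.mem_range] at hi hj
    wlog hlt : i < j generalizing i j
    · exact this j hj i hi hij.symm (fun a ha => by
        rw [← neg_sub, mul_neg, hcon a ha, neg_zero]) (by omega)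
    have hd : ∀ a ∈ B, e * σ (j - i) a = e * a := by
      intro a ha
      have h0 := hcon _ (hσB (p ^ (n + 1) - i) a ha)
      rw [mul_sub, sub_eq_zero, ← hσadd, ← hσadd, hσper (i + (p ^ (n + 1) - i)) 0 (by
        rw [show i + (p ^ (n + 1) - i) = p ^ (n + 1) by omega]; exact Nat.modEq_zero_iff_dvd.mpr dvd_rfl),
        hσper (j + (p ^ (n + 1) - i)) (j - i) (by
          rw [show j + (p ^ (n + 1) - i) = p ^ (n + 1) + (j - i) by omega]
          exact Nat.add_modEq_left)] at h0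
      rw [← h0]
      simp [σ]
    have hk : ∀ k, ∀ a ∈ B, e * σ ((j - i) * k) a = e * a := by
      intro k
      induction k with
      | zero => intro a _; simp [σ]
      | succ k ih =>
        intro a ha
        rw [Nat.mul_succ, add_comm, hσadd, hd _ (hσB _ a ha), ih a ha]
    obtain ⟨k, hk'⟩ := exists_congr_mul (p := p) (n := n) (d := j - i) (by omega) (by omega)
    have h1 := hk k (s : R) hsB
    rw [hσper _ _ hk'] at h1
    exact heb₀ (by rw [hb₀, mul_sub, h1, sub_self])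
  have hxi : ∀ i, ∀ b : R, σ i b * (x : R) ^ i = (x : R) ^ i * b := fun i b => by
    simp only [σ]
    rw [← Units.val_pow_eq_pow_val, mul_assoc, Units.inv_mul, mul_one]
  have hrel : ∀ b ∈ B, ∑ i ∈ range (p ^ (n + 1)), σ i b * (e * (x : R) ^ i) = 0 := by
    intro b hb
    calc ∑ i ∈ range (p ^ (n + 1)), σ i b * (e * (x : R) ^ i)
        = ∑ i ∈ range (p ^ (n + 1)), e * ((x : R) ^ i * b) := Finset.sum_congr rfl fun i _ => by
          rw [← mul_assoc, (hB _ (hσB i b hb) e heB).eq, mul_assoc, hxi]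
      _ = 0 := by rw [← Finset.mul_sum, ← Finset.sum_mul, hsum, zero_mul, mul_zero]
  have h0 := sum_relation_eq_zero hB heB σ hσB hσmul hσone hinv (range (p ^ (n + 1))) hsep
    (fun i => e * (x : R) ^ i) (fun i _ => by rw [← mul_assoc, hee]) hrel 0
    (Finset.mem_range.mpr (pow_pos hp.out.pos _))
  rw [pow_zero, mul_one] at h0
  exact he0 h0

end Cfsg.Agent.NormOperator
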