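import Cfsg.Agent.Lib.PCore.PLength
import Cfsg.Agent.Lib.PCore.PSolvable
import Cfsg.Agent.Lib.PCore.HallHigman
import Cfsg.Agent.Lib.PCore.HallHigmanDual
import Cfsg.Agent.Lib.PCore.NormOperator
import Cfsg.Agent.Lib.PGroup.Frattini
import Cfsg.Agent.Lib.Coprime.Sylow
import Cfsg.Agent.Lib.Coprime.Quotient
import Cfsg.Agent.Lib.Coprime.Action
import Mathlib.Algebra.Group.Equiv.TypeTags

/-!
`p`-soluble groups with abelian Sylow `q`-subgroups (`q ≠ p`): the `p`-length is bounded by the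
exponent of a Sylow `p`-subgroup.
-/

set_option autoImplicit false
set_option linter.style.haveILetI false

namespace Cfsg.Agent.PCore

open Subgroup Cfsg

universe u

variable {G : Type u} [Group G] [Finite G] {p : ℕ} [hp : Fact p.Prime]

theorem pow_mem_pCore_of_abelianSylow (hG : IsPSolvable p G) (h1 : pPrimeCore p G = ⊥)
    (hab : ∀ (q : ℕ) [Fact q.Prime], q ≠ p → ∀ Q : Sylow q G, IsMulCommutative (Q : Subgroup G))
    (n : ℕ) (P : Sylow p G) (hexp : ∀ y ∈ (P : Subgroup G), y ^ p ^ (n + 1) = 1)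
    {x : G} (hx : x ∈ (P : Subgroup G)) : x ^ p ^ n ∈ pCore p G := by
  classical
  by_contra hz
  set N := pCore p G with hN
  set π := QuotientGroup.mk' N with hπ
  have hsol : IsPSolvable p (G ⧸ N) := isPSolvable_quotient hG N
  have hq0 : pCore p (G ⧸ N) = ⊥ := pCore_quotient_self_eq_bot
  set K := pPrimeCore p (G ⧸ N) with hK
  have hKcop : (Nat.card K).Coprime p := coprime_card_pPrimeCore
  have hNp : IsPGroup p N := isPGroup_pCore
  -- `A = ⟨π x⟩` acts coprimely on `K`
  have hAp : IsPGroup p (zpowers (π x)) :=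
    (P.2.map π).to_le (zpowers_le.mpr (mem_map_of_mem π hx))
  obtain ⟨a, ha⟩ := hAp.exists_card_eq
  have hcop : (Nat.card (zpowers (π x))).Coprime (Nat.card K) := by
    rw [ha]; exact (hKcop.symm).pow_left a
  have hAK : zpowers (π x) ≤ normalizer (K : Set (G ⧸ N)) := by
    rw [normalizer_eq_top (H := K)]; exact le_top
  have hsA : Group.IsSolvable (zpowers (π x)) ∨ Group.IsSolvable K :=
    Or.inl (Group.isSolvable_of_comm fun u v => mul_comm' u v)
  have hzne : π (x ^ p ^ n) ≠ 1 := fun h => hz ((QuotientGroup.eq_one_iff _).mp h)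
  have hzP : x ^ p ^ n ∈ (P : Subgroup G) := pow_mem hx _
  obtain ⟨q, Q, hq, hQ, hQK, hQn, hQc⟩ : ∃ (q : ℕ) (Q : Subgroup (G ⧸ N)), q.Prime ∧ IsPGroup q Q ∧
      Q ≤ K ∧ zpowers (π x) ≤ normalizer (Q : Set (G ⧸ N)) ∧ ¬ Q ≤ centralizer {π (x ^ p ^ n)} := by
    by_contra hcon
    push Not at hcon
    have hS := Coprime.eq_of_forall_invariant_pgroup_le hAK hcop hsA
      (S := K ⊓ centralizer {π (x ^ p ^ n)}) inf_le_left
      (fun q Q hq hQ hQK hQn => le_inf hQK (hcon q Q hq hQ hQK hQn))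
    have hzC : π (x ^ p ^ n) ∈ centralizer (K : Set (G ⧸ N)) := mem_centralizer_iff.mpr fun k hk => by
      have : k ∈ centralizer {π (x ^ p ^ n)} := (le_of_eq hS.symm |>.trans inf_le_right) hk
      exact mem_centralizer_singleton_iff.mp this
    have hzK := centralizer_pPrimeCore_le hsol hq0 hzC
    obtain ⟨j, hj⟩ := IsPGroup.iff_orderOf.mp (P.2.map π) ⟨_, mem_map_of_mem π hzP⟩
    rw [Subgroup.orderOf_mk] at hj
    have hdv : orderOf (π (x ^ p ^ n)) ∣ Nat.card K := by
      simpa using orderOf_dvd_natCard (⟨_, hzK⟩ : K)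
    exact hzne (orderOf_eq_one_iff.mp
      (Nat.eq_one_of_dvd_coprimes (hKcop.symm.pow_left j) hj.dvd hdv))
  haveI := Fact.mk hq
  have hqp : q ≠ p := by
    rintro rfl
    obtain ⟨j, hj⟩ := hQ.exists_card_eq
    have h1 : q ^ j ∣ Nat.card K := hj ▸ Subgroup.card_dvd_of_le hQK
    rcases Nat.eq_zero_or_pos j with rfl | hj0
    · rw [pow_zero] at hj
      apply hQc
      rw [Subgroup.eq_bot_of_card_eq Q hj]
      exact bot_le
    · exact hq.ne_one (Nat.eq_one_of_dvd_coprimes hKcop ((dvd_pow_self q hj0.ne').trans h1) dvd_rfl)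
  have hQcomm : ∀ u ∈ Q, ∀ v ∈ Q, Commute u v := by
    obtain ⟨T, hT⟩ := hQ.exists_le_sylow
    obtain ⟨R⟩ := (inferInstance : Nonempty (Sylow q G))
    let R' := R.mapSurjective (f := π) (QuotientGroup.mk'_surjective N)
    obtain ⟨g, hg⟩ := MulAction.exists_smul_eq (G ⧸ N) R' T
    intro u hu v hv
    have := hab q hqp R
    have hR' : ∀ w ∈ (T : Subgroup (G ⧸ N)), ∃ r ∈ (R : Subgroup G), g * π r * g⁻¹ = w := by
      intro w hw
      rw [← hg] at hw
      obtain ⟨_, ⟨r, hr, rfl⟩, e⟩ := hw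
      exact ⟨r, hr, e⟩
    obtain ⟨a, ha, rfl⟩ := hR' u (hT hu)
    obtain ⟨b, hb, rfl⟩ := hR' v (hT hv)
    exact ((show Commute a b from setLike_mul_comm ha hb).map π).map (MulAut.conj g).toMonoidHom
  -- the module `N / Φ(N)`
  let Φ := frattini N
  haveI hVc : IsMulCommutative (N ⧸ Φ) := ⟨⟨fun u v => by
    obtain ⟨u, rfl⟩ := QuotientGroup.mk_surjective u
    obtain ⟨v, rfl⟩ := QuotientGroup.mk_surjective v
    rw [← QuotientGroup.mk_mul, ← QuotientGroup.mk_mul, QuotientGroup.eq]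
    have h := PGroup.commutator_le_frattini hNp (Subgroup.commutator_mem_commutator (mem_top v⁻¹) (mem_top u⁻¹))
    rw [commutatorElement_def, inv_inv, inv_inv] at h
    rwa [mul_inv_rev, ← mul_assoc]⟩⟩
  open scoped IsMulCommutative in
  let V := Additive (N ⧸ Φ)
  open scoped IsMulCommutative in
  let ψ₀ : G → AddMonoid.End V := fun g => MonoidHom.toAdditive
    (QuotientGroup.map Φ Φ (MulAut.conjNormal g).toMonoidHom fun w hw =>
      (Characteristic.fixed (H := Φ) inferInstance (MulAut.conjNormal g)).ge hw)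
  have hψ₀ : ∀ (g : G) (w : N), ψ₀ g (Additive.ofMul (w : N ⧸ Φ)) =
      Additive.ofMul ((MulAut.conjNormal g w : N) : N ⧸ Φ) := fun g w => rfl
  have hrepr : ∀ v : V, ∃ w : N, v = Additive.ofMul (w : N ⧸ Φ) := fun v => by
    obtain ⟨w, hw⟩ := QuotientGroup.mk_surjective (Additive.toMul v)
    exact ⟨w, by rw [hw]; rfl⟩
  open scoped IsMulCommutative in
  let ψ : G →* AddMonoid.End V :=
    { toFun := ψ₀
      map_one' := by
        refine DFunLike.ext _ _ fun v => ?_
        obtain ⟨w, rfl⟩ := hrepr v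
        rw [hψ₀, map_one]
        rfl
      map_mul' := fun g h => by
        refine DFunLike.ext _ _ fun v => ?_
        obtain ⟨w, rfl⟩ := hrepr v
        show _ = ψ₀ g (ψ₀ h _)
        rw [hψ₀, hψ₀, hψ₀, map_mul]
        rfl }
  have hNker : ∀ g ∈ N, ψ g = 1 := by
    intro g hg
    refine DFunLike.ext _ _ fun v => ?_
    obtain ⟨w, rfl⟩ := hrepr v
    show ψ₀ g _ = _
    rw [hψ₀]
    have e : MulAut.conjNormal g w = (⟨g, hg⟩ : N) * w * (⟨g, hg⟩ : N)⁻¹ :=
      Subtype.ext (by simp [MulAut.conjNormal_apply])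
    rw [e, QuotientGroup.mk_mul, QuotientGroup.mk_mul, QuotientGroup.mk_inv, mul_comm' (M := N ⧸ Φ),
      inv_mul_cancel_left]
    rfl
  let ψu := ψ.toHomUnits
  have hψu : ∀ g, ψu g = 1 ↔ ψ g = 1 := fun g => by
    rw [Units.ext_iff, MonoidHom.coe_toHomUnits, Units.val_one]
  let ψb : G ⧸ N →* (AddMonoid.End V)ˣ := QuotientGroup.lift N ψu fun g hg => (hψu g).mpr (hNker g hg)
  have hψb : ∀ g, ψb (π g) = ψu g := fun g => rfl
  have hinj : Function.Injective ψb := by
    rw [← MonoidHom.ker_eq_bot_iff, ← le_bot_iff, ← hq0]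
    refine le_pCore (IsPGroup.iff_orderOf.mpr fun w => ?_)
    obtain ⟨⟨wb, hwb⟩, rfl⟩ : ∃ w', w' = w := ⟨w, rfl⟩
    rw [Subgroup.orderOf_mk]
    obtain ⟨g, rfl⟩ := QuotientGroup.mk'_surjective N wb
    -- the `p'`-part of `g` lies in `N`
    obtain ⟨i, m, hm, hgm⟩ := Nat.exists_eq_pow_mul_and_not_dvd (orderOf_pos g).ne' p hp.out.ne_one
    have hy : orderOf (g ^ p ^ i) = m := by
      rw [orderOf_pow' _ (pow_ne_zero _ hp.out.ne_zero), hgm, Nat.gcd_eq_right (dvd_mul_right _ _),
        Nat.mul_div_cancel_left _ (pow_pos hp.out.pos i)]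
    have hycop : (Nat.card (zpowers (g ^ p ^ i))).Coprime (Nat.card N) := by
      obtain ⟨k, hk⟩ := hNp.exists_card_eq
      rw [Nat.card_zpowers, hy, hk]
      exact ((hp.out.coprime_iff_not_dvd.mpr hm).symm).pow_right k
    have hyker : ψ (g ^ p ^ i) = 1 := by
      rw [map_pow, (hψu g).mp hwb, one_pow]
    have hyN : zpowers (g ^ p ^ i) ≤ normalizer (N : Set G) := by
      rw [normalizer_eq_top (H := N)]; exact le_top
    set C := N ⊓ centralizer (zpowers (g ^ p ^ i) : Set G) with hC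
    have hsy : Group.IsSolvable (zpowers (g ^ p ^ i)) ∨ Group.IsSolvable N :=
      Or.inl (Group.isSolvable_of_comm fun u v => mul_comm' u v)
    have hfull : C.subgroupOf N = ⊤ := by
      refine frattini_nongenerating (top_le_iff.mp fun w _ => ?_)
      -- `w` is fixed modulo `Φ`, so it is congruent to a fixed element
      let φ : zpowers (g ^ p ^ i) →* MulAut N := (MulAut.conjNormal).comp (zpowers (g ^ p ^ i)).subtype
      have hfix : ∀ a : zpowers (g ^ p ^ i), w⁻¹ * φ a w ∈ Φ := by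
        rintro ⟨_, k, rfl⟩
        have hk : ψu ((g ^ p ^ i) ^ k) = 1 := by rw [map_zpow, (hψu _).mpr hyker, one_zpow]
        have h2 := DFunLike.congr_fun ((hψu _).mp hk) (Additive.ofMul (w : N ⧸ Φ))
        have h3 : ((MulAut.conjNormal ((g ^ p ^ i) ^ k) w : N) : N ⧸ Φ) = (w : N ⧸ Φ) := h2
        exact QuotientGroup.eq.mp h3.symm
      obtain ⟨k, hk⟩ := hNp.exists_card_eq
      obtain ⟨m, hm', hwm⟩ := Coprime.exists_fixed_mul_mem_hom φ (N := Φ)
        (fun a v hv => (Characteristic.fixed (H := Φ) inferInstance (φ a)).ge hv)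
        (hycop.coprime_dvd_right (Subgroup.card_subgroup_dvd_card Φ))
        (Or.inl (Group.isSolvable_of_comm fun u v => mul_comm' u v)) hfix
      have hwC : w * m ∈ C.subgroupOf N := by
        refine mem_subgroupOf.mpr ⟨(w * m).2, mem_centralizer_iff.mpr fun a ha => ?_⟩
        have := congrArg Subtype.val ((Coprime.mem_fixedBy φ).mp hwm ⟨a, ha⟩)
        simp only [φ, MonoidHom.comp_apply, Subgroup.coe_subtype, MulAut.conjNormal_apply] at this
        exact mul_inv_eq_iff_eq_mul.mp this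
      rw [show w = w * m * m⁻¹ by group]
      exact mul_mem (mem_sup_left hwC) (mem_sup_right (inv_mem hm'))
    have hyC : g ^ p ^ i ∈ centralizer (N : Set G) := by
      refine mem_centralizer_iff.mpr fun w hw => ?_
      have : (⟨w, hw⟩ : N) ∈ C.subgroupOf N := hfull ▸ mem_top _
      exact ((mem_centralizer_iff.mp (mem_inf.mp (mem_subgroupOf.mp this)).2) _ (mem_zpowers _)).symm
    have hyN' := centralizer_pCore_le hG h1 hyC
    obtain ⟨j, hj⟩ := IsPGroup.iff_orderOf.mp hNp ⟨_, hyN'⟩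
    rw [Subgroup.orderOf_mk, hy] at hj
    obtain ⟨l, -, hl⟩ := (Nat.dvd_prime_pow hp.out).mp
      ((orderOf_map_dvd π g).trans (hgm.trans (by rw [hj, ← pow_add])).dvd)
    exact ⟨l, hl⟩
  -- apply the norm operator
  let S : Subgroup (AddMonoid.End V)ˣ := Q.map ψb
  obtain ⟨k, hk⟩ := hQ.exists_card_eq
  haveI hVnt : Nontrivial V := by
    by_contra hsub
    rw [not_nontrivial_iff_subsingleton] at hsub
    exact hzne (hinj (Units.ext (DFunLike.ext _ _ fun v => Subsingleton.elim _ _)))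
  haveI : Nontrivial (AddMonoid.End V) := by
    obtain ⟨v, hv⟩ := exists_ne (0 : V)
    exact ⟨⟨1, 0, fun h => hv (DFunLike.congr_fun h v)⟩⟩
  haveI : CharP (AddMonoid.End V) p := by
    refine (CharP.charP_iff_prime_eq_zero hp.out).mpr ?_
    rw [← nsmul_one]
    refine DFunLike.ext _ _ fun v => ?_
    obtain ⟨w, rfl⟩ := hrepr v
    show p • Additive.ofMul ((w : N ⧸ Φ)) = 0
    rw [← ofMul_pow, ← QuotientGroup.mk_pow, (QuotientGroup.eq_one_iff _).mpr (PGroup.pow_mem_frattini hNp w)]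
    rfl
  haveI : Finite (AddMonoid.End V) := Finite.of_injective (fun f => (f : V → V)) DFunLike.coe_injective
  refine NormOperator.sum_pow_ne_zero S ?_ ?_ (ψb (π x)) ?_ ?_ ?_ (n := n) (p := p) ?_
  · rw [Subgroup.card_map_of_injective hinj, hk]
    exact fun h => hqp ((Nat.prime_dvd_prime_iff_eq hp.out hq).mp (hp.out.dvd_of_dvd_pow h)).symm
  · rintro _ ⟨u, hu, rfl⟩ _ ⟨v, hv, rfl⟩
    exact (hQcomm u hu v hv).map ψb
  · rintro _ ⟨u, hu, rfl⟩
    refine ⟨π x * u * (π x)⁻¹, (mem_normalizer_iff.mp (hQn (mem_zpowers _)) u).mp hu, by simp⟩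
  · rw [← map_pow, ← map_pow, hexp x hx, map_one, map_one]
  · obtain ⟨u, hu, hu'⟩ := SetLike.not_le_iff_exists.mp hQc
    refine ⟨ψb u, mem_map_of_mem ψb hu, fun h => hu' (mem_centralizer_singleton_iff.mpr ?_)⟩
    rw [← map_pow, ← map_mul, ← map_mul, ← map_pow] at h
    exact (hinj h).symm
  · refine DFunLike.ext _ _ fun v => ?_
    obtain ⟨w, rfl⟩ := hrepr v
    have hkey : ∀ i : ℕ, ∃ u : N, (u : G) = ((w : G) * x) ^ i * (x ^ i)⁻¹ ∧
        (∑ j ∈ Finset.range i, ((ψb (π x) : (AddMonoid.End V)ˣ) : AddMonoid.End V) ^ j)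
          (Additive.ofMul (w : N ⧸ Φ)) = Additive.ofMul (u : N ⧸ Φ) := by
      intro i
      induction i with
      | zero => exact ⟨1, by simp, by simp⟩
      | succ i ih =>
        obtain ⟨u, hu, hu'⟩ := ih
        refine ⟨u * MulAut.conjNormal (x ^ i) w, ?_, ?_⟩
        · rw [Subgroup.coe_mul, MulAut.conjNormal_apply, hu, pow_succ ((w : G) * x), pow_succ x,
            mul_inv_rev]
          group
        · rw [Finset.sum_range_succ]
          show (∑ j ∈ Finset.range i, ((ψb (π x) : (AddMonoid.End V)ˣ) : AddMonoid.End V) ^ j)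
            (Additive.ofMul (w : N ⧸ Φ)) + _ = _
          rw [hu', hψb, MonoidHom.coe_toHomUnits,
            ← map_pow]
          show Additive.ofMul _ + ψ₀ (x ^ i) _ = _
          rw [hψ₀, QuotientGroup.mk_mul, ofMul_mul]
    obtain ⟨u, hu, hu'⟩ := hkey (p ^ (n + 1))
    rw [hu']
    have hwx : (w : G) * x ∈ (P : Subgroup G) := mul_mem (pCore_le_sylow P w.2) hx
    rw [hexp x hx, hexp _ hwx, inv_one, mul_one] at hu
    rw [show u = 1 from Subtype.ext hu]
    rfl

/-- **p-length at most exponent** when the other Sylow subgroups are abelian. -/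
theorem pLengthLE_of_abelianSylow : ∀ (n : ℕ) {G : Type u} [Group G] [Finite G], IsPSolvable p G →
    (∀ (q : ℕ) [Fact q.Prime], q ≠ p → ∀ Q : Sylow q G, IsMulCommutative (Q : Subgroup G)) →
    (∀ (P : Sylow p G), ∀ x ∈ (P : Subgroup G), x ^ p ^ n = 1) → PLengthLE p n G := by
  intro n
  induction n with
  | zero =>
    intro G _ _ _ _ hexp
    rw [pLengthLE_zero_iff, Nat.coprime_comm, hp.out.coprime_iff_not_dvd]
    intro hd
    obtain ⟨P⟩ := (inferInstance : Nonempty (Sylow p G))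
    refine P.ne_bot_of_dvd_card hd ((Subgroup.eq_bot_iff_forall _).mpr fun x hx => ?_)
    simpa using hexp P x hx
  | succ n ih =>
    intro G _ _ hG hab hexp
    have habq : ∀ {H : Type u} [Group H] [Finite H] (f : G →* H), Function.Surjective f →
        ∀ (q : ℕ) [Fact q.Prime], q ≠ p → ∀ Q : Sylow q H, IsMulCommutative (Q : Subgroup H) := by
      intro H _ _ f hf q _ hq Q
      obtain ⟨T, rfl⟩ := Sylow.mapSurjective_surjective hf q Q
      have := hab q hq T
      exact ⟨⟨fun a b => by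
        obtain ⟨_, u, hu, rfl⟩ := a
        obtain ⟨_, v, hv, rfl⟩ := b
        exact Subtype.ext ((show Commute u v from setLike_mul_comm hu hv).map f).eq⟩⟩
    set f₁ := QuotientGroup.mk' (pPrimeCore p G)
    refine pLengthLE_of_ker_le_pPrimeCore f₁ (QuotientGroup.mk'_surjective _)
      (QuotientGroup.ker_mk' _).le ?_
    set H := G ⧸ pPrimeCore p G
    have habH := habq f₁ (QuotientGroup.mk'_surjective _)
    have hsolH := isPSolvable_quotient hG (pPrimeCore p G)
    have hexpH : ∀ (P : Sylow p H), ∀ x ∈ (P : Subgroup H), x ^ p ^ (n + 1) = 1 := by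
      intro P x hx
      obtain ⟨T, rfl⟩ := Sylow.mapSurjective_surjective (QuotientGroup.mk'_surjective _) p P
      obtain ⟨u, hu, rfl⟩ := hx
      rw [← map_pow, hexp T u hu, map_one]
    set f₂ := QuotientGroup.mk' (pCore p H)
    refine pLengthLE_succ_of_isPGroup_ker f₂ (QuotientGroup.mk'_surjective _)
      (QuotientGroup.ker_mk' _).le ?_
    refine ih (isPSolvable_quotient hsolH _) ?_ ?_
    · intro q _ hq Q
      obtain ⟨T, rfl⟩ := Sylow.mapSurjective_surjective (QuotientGroup.mk'_surjective _) q Q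
      have := habH q hq T
      exact ⟨⟨fun a b => by
        obtain ⟨_, u, hu, rfl⟩ := a
        obtain ⟨_, v, hv, rfl⟩ := b
        exact Subtype.ext ((show Commute u v from setLike_mul_comm hu hv).map f₂).eq⟩⟩
    · intro P y hy
      obtain ⟨T, rfl⟩ := Sylow.mapSurjective_surjective (QuotientGroup.mk'_surjective _) p P
      obtain ⟨u, hu, rfl⟩ := hy
      rw [← map_pow]
      exact (QuotientGroup.eq_one_iff _).mpr
        (pow_mem_pCore_of_abelianSylow hsolH pPrimeCore_quotient_self_eq_bot habH n T (hexpH T) hu)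

end Cfsg.Agent.PCore
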